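import Mathlib

/-! Counting lemmas: free actions, class functions. -/

namespace Cfsg.Agent.H62

open MulAction

theorem ncard_preimage_free {K X : Type*} [Group K] [MulAction K X]
    (hfree : ∀ (k : K) (x : X), k • x = x → k = 1) (V : Set (orbitRel.Quotient K X)) :
    ((fun x => (Quotient.mk _ x : orbitRel.Quotient K X)) ⁻¹' V).ncard = V.ncard * Nat.card K := by
  rw [← Nat.card_coe_set_eq, ← Nat.card_coe_set_eq, ← Nat.card_prod]
  symm
  have hmk : ∀ (k : K) (x : X),
      (Quotient.mk _ (k • x) : orbitRel.Quotient K X) = Quotient.mk _ x := fun k x =>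
    Quotient.sound ⟨k, rfl⟩
  refine Nat.card_congr (Equiv.ofBijective (fun z => ⟨z.2 • z.1.1.out, ?_⟩) ⟨?_, ?_⟩)
  · show Quotient.mk _ _ ∈ V
    rw [hmk, Quotient.out_eq]; exact z.1.2
  · rintro ⟨⟨a, ha⟩, k⟩ ⟨⟨b, hb⟩, l⟩ e
    have e' : k • a.out = l • b.out := congrArg Subtype.val e
    have hab : a = b := by
      rw [← Quotient.out_eq a, ← Quotient.out_eq b, ← hmk k, e', hmk]
    subst hab
    have : l⁻¹ * k = 1 := hfree _ a.out (by rw [mul_smul, e', inv_smul_smul])
    rw [(inv_mul_eq_one.1 this)]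
  · rintro ⟨x, hx⟩
    obtain ⟨k, hk⟩ : (Quotient.mk _ x : orbitRel.Quotient K X).out ∈ orbit K x :=
      Quotient.mk_out (s := orbitRel K X) x
    refine ⟨⟨⟨_, hx⟩, k⁻¹⟩, Subtype.ext ?_⟩
    show k⁻¹ • (Quotient.mk _ x : orbitRel.Quotient K X).out = x
    rw [← hk]; simp

theorem card_dvd_ncard_of_free {K X : Type*} [Group K] (σ : K →* Equiv.Perm X)
    (hfree : ∀ (k : K) (x : X), σ k x = x → k = 1) {W : Set X}
    (hW : ∀ k, ∀ x ∈ W, σ k x ∈ W) : Nat.card K ∣ W.ncard := by
  letI : MulAction K X := MulAction.compHom X σ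
  have := ncard_preimage_free (K := K) (X := X) hfree
    ((fun x => (Quotient.mk _ x : orbitRel.Quotient K X)) '' W)
  have e : (fun x => (Quotient.mk _ x : orbitRel.Quotient K X)) ⁻¹'
      ((fun x => (Quotient.mk _ x : orbitRel.Quotient K X)) '' W) = W := by
    refine Set.Subset.antisymm ?_ (Set.subset_preimage_image _ _)
    rintro x ⟨y, hy, e⟩
    obtain ⟨k, hk⟩ : y ∈ orbit K x := Quotient.exact e
    have := hW k⁻¹ y hy
    have e2 : σ k⁻¹ y = x := by
      rw [← hk]; show σ k⁻¹ (σ k x) = x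
      rw [← Equiv.Perm.mul_apply, ← map_mul]; simp
    rwa [e2] at this
  rw [e] at this
  rw [this]; exact Dvd.intro_left _ rfl

theorem ncard_class_mul {G : Type*} [Group G] [Finite G] (a : G) :
    {b | IsConj a b}.ncard * Nat.card (Subgroup.centralizer ({a} : Set G)) = Nat.card G := by
  classical
  haveI := Fintype.ofFinite G
  rw [Subgroup.nat_card_centralizer_nat_card_stabilizer]
  have := MulAction.index_stabilizer (ConjAct G) a
  have h2 := (stabilizer (ConjAct G) a).index_mul_card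
  rw [this] at h2
  have e : orbit (ConjAct G) a = {b | IsConj a b} := by
    ext b; rw [ConjAct.mem_orbit_conjAct, isConj_comm]; rfl
  rw [e] at h2
  exact h2

theorem dvd_sum_class {G : Type*} [Group G] [Fintype G] (g : G → ℕ) (d : ℕ)
    (hg : ∀ a b, IsConj a b → g a = g b)
    (h : ∀ a, d * Nat.card (Subgroup.centralizer ({a} : Set G)) ∣ g a) :
    d * Nat.card G ∣ ∑ a, g a := by
  classical
  rw [← Finset.sum_fiberwise_of_maps_to (g := ConjClasses.mk) (t := Finset.univ)
    (fun _ _ => Finset.mem_univ _)]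
  refine Finset.dvd_sum fun c _ => ?_
  obtain ⟨a, rfl⟩ := ConjClasses.mk_surjective c
  rw [Finset.sum_congr rfl (g := fun _ => g a) fun b hb =>
    (hg _ _ (ConjClasses.mk_eq_mk_iff_isConj.1 (Finset.mem_filter.1 hb).2))]
  rw [Finset.sum_const, smul_eq_mul, ← ncard_class_mul a]
  have e : (Finset.univ.filter fun b => ConjClasses.mk b = ConjClasses.mk a).card =
      {b | IsConj a b}.ncard := by
    rw [← Set.ncard_coe_finset]
    congr 1
    ext b
    simp only [Finset.coe_filter, Finset.mem_univ, true_and, Set.mem_setOf_eq,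
      ConjClasses.mk_eq_mk_iff_isConj]
    exact isConj_comm
  rw [e, mul_left_comm]
  exact Nat.mul_dvd_mul_left _ (h a)

end Cfsg.Agent.H62
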