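import Cfsg.Agent.H62.Engel
import Cfsg.Agent.H62.Stable
import Cfsg.Agent.H62.IndexP
import Cfsg.Agent.H4.CoprimeAut

/-!
An element of order `p` whose norm `1 + h + ⋯ + h^(p-1)` vanishes on a module centralizes every
abelian `p'`-group of automorphisms that it normalizes.
-/

namespace Cfsg.Agent.H62

open Subgroup Cfsg.Agent.H49
open scoped commutatorElement

variable {p : ℕ}

theorem sum_eq_card_of_fpf {Γ R : Type*} [Group Γ] [Ring R] (ρ : Γ →* R) (K : Subgroup Γ)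
    [Fintype K] {h : Γ} {n : ℕ} (hK : h ∈ 𝒩(K))
    (hf : ∀ i, i < n → ∀ k ∈ K, k * h ^ (i + 1) = h ^ (i + 1) * k → k = 1)
    (hN : ∑ i ∈ Finset.range (n + 1), ρ (h ^ i) = 0) :
    ∑ k : K, ρ k = Fintype.card K := by
  have h1 : ∀ i ∈ Finset.range n, ∑ k : K, ρ k * ρ (h ^ (i + 1)) * ρ (k : Γ)⁻¹ =
      (∑ k : K, ρ k) * ρ (h ^ (i + 1)) := by
    intro i hi
    let θ : K → K := fun k => ⟨k * (h ^ (i + 1) * (k : Γ)⁻¹ * (h ^ (i + 1))⁻¹),
      K.mul_mem k.2 (conj_mem_of_norm le_rfl (pow_mem hK _) (K.inv_mem k.2))⟩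
    have hθ : Function.Injective θ := by
      intro a b hab
      have h2 : (a : Γ) * (h ^ (i + 1) * (a : Γ)⁻¹ * (h ^ (i + 1))⁻¹) =
        b * (h ^ (i + 1) * (b : Γ)⁻¹ * (h ^ (i + 1))⁻¹) := congrArg Subtype.val hab
      have h3 := hf i (Finset.mem_range.1 hi) ((b : Γ)⁻¹ * a) (K.mul_mem (K.inv_mem b.2) a.2) (by
        generalize h ^ (i + 1) = t at h2
        calc (b : Γ)⁻¹ * a * t = (b : Γ)⁻¹ * (a * (t * (a : Γ)⁻¹ * t⁻¹)) * t * a := by group
          _ = t * ((b : Γ)⁻¹ * a) := by rw [h2]; group)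
      exact Subtype.ext (inv_mul_eq_one.1 h3).symm
    rw [Finset.sum_mul, ← (Finite.injective_iff_bijective.1 hθ).sum_comp
      (fun k : K => ρ k * ρ (h ^ (i + 1)))]
    refine Finset.sum_congr rfl fun k _ => ?_
    rw [← map_mul, ← map_mul, ← map_mul]
    congr 1
    simp only [θ]
    group
  have h2 : ∑ k : K, ρ k * (∑ i ∈ Finset.range (n + 1), ρ (h ^ i)) * ρ (k : Γ)⁻¹ = 0 := by
    rw [hN]; simp
  have h3 : (∑ k : K, ρ k) * ∑ i ∈ Finset.range (n + 1), ρ (h ^ i) = 0 := by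
    rw [hN, mul_zero]
  simp_rw [Finset.mul_sum, Finset.sum_mul] at h2
  rw [Finset.sum_comm, Finset.sum_range_succ', Finset.sum_congr rfl h1] at h2
  rw [Finset.mul_sum, Finset.sum_range_succ'] at h3
  simp only [pow_zero, map_one, mul_one, ← map_mul, mul_inv_cancel, Finset.sum_const,
    Finset.card_univ, nsmul_eq_mul] at h2 h3
  exact add_left_cancel (h3.trans h2.symm)

/-- Automorphisms of a commutative group as elements of the endomorphism ring. -/
def autEnd (A : Type*) [CommGroup A] : MulAut A →* AddMonoid.End (Additive A) where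
  toFun f := MonoidHom.toAdditive f.toMonoidHom
  map_one' := rfl
  map_mul' _ _ := rfl

theorem mem_cent_of_norm_zero [hp : Fact p.Prime] {A : Type*} [CommGroup A] [Finite A]
    (hA : IsPGroup p A) (L : Subgroup (MulAut A)) (hL : ∀ a ∈ L, ∀ b ∈ L, a * b = b * a)
    (hc : (Nat.card L).Coprime p) {h : MulAut A} (hh : h ∈ 𝒩(L)) (hhp : h ^ p = 1)
    (hN : ∀ a : A, ∏ i ∈ Finset.range p, (h ^ i) a = 1) : h ∈ 𝒞(L) := by
  classical
  have hcj : ∀ x ∈ L, h * x * h⁻¹ ∈ L := fun x hx => conj_mem_of_norm le_rfl hh hx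
  let K : Subgroup (MulAut A) :=
    { carrier := {k | ∃ x ∈ L, k = x⁻¹ * (h * x * h⁻¹)}
      mul_mem' := by
        rintro _ _ ⟨x, hx, rfl⟩ ⟨y, hy, rfl⟩
        refine ⟨x * y, L.mul_mem hx hy, ?_⟩
        have h1 := hL _ (L.mul_mem (L.inv_mem hx) (hcj x hx)) _ (L.inv_mem hy)
        calc x⁻¹ * (h * x * h⁻¹) * (y⁻¹ * (h * y * h⁻¹))
            = (x⁻¹ * (h * x * h⁻¹) * y⁻¹) * (h * y * h⁻¹) := by group
          _ = (x * y)⁻¹ * (h * (x * y) * h⁻¹) := by rw [h1]; group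
      one_mem' := ⟨1, L.one_mem, by group⟩
      inv_mem' := by
        rintro _ ⟨x, hx, rfl⟩
        refine ⟨x⁻¹, L.inv_mem hx, ?_⟩
        have h1 := hL _ hx _ (L.inv_mem (hcj x hx))
        calc (x⁻¹ * (h * x * h⁻¹))⁻¹ = (h * x * h⁻¹)⁻¹ * x := by group
          _ = x⁻¹⁻¹ * (h * x⁻¹ * h⁻¹) := by rw [← h1]; group }
  have hKL : K ≤ L := by
    rintro _ ⟨x, hx, rfl⟩
    exact L.mul_mem (L.inv_mem hx) (hcj x hx)
  have hhK : h ∈ 𝒩(K) := by
    refine mem_norm_of_cj_le ?_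
    rintro _ ⟨_, ⟨x, hx, rfl⟩, rfl⟩
    refine ⟨h * x * h⁻¹, hcj x hx, ?_⟩
    change h * _ * h⁻¹ = _
    group
  have hord : orderOf h ∣ p := orderOf_dvd_of_pow_eq_one hhp
  have hf : ∀ i, i < p - 1 → ∀ k ∈ K, k * h ^ (i + 1) = h ^ (i + 1) * k → k = 1 := by
    rintro i hi k hk hki
    have h1 : h ∈ zpowers (h ^ (i + 1)) := mem_zpowers_pow_iff.2
      (Nat.Coprime.coprime_dvd_right hord ((Nat.coprime_comm.1
        ((Nat.Prime.coprime_iff_not_dvd hp.out).2 (Nat.not_dvd_of_pos_of_lt (by omega)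
          (by omega))))))
    have h2 : k * h = h * k := by
      obtain ⟨m, hm⟩ := mem_zpowers_iff.1 h1
      rw [← hm]
      exact (Commute.zpow_right hki m).eq
    obtain ⟨x, hx, rfl⟩ := hk
    have h3 := H4.mulAut_apply_eq_of_fixed (MulAut.conj h) (x := x) (by
      change h * (x⁻¹ * (h * x * h⁻¹)) * h⁻¹ = x⁻¹ * (h * x * h⁻¹)
      rw [← h2, mul_inv_cancel_right]) (Nat.Coprime.coprime_dvd_left
        ((orderOf_map_dvd MulAut.conj h).trans hord) (Nat.Coprime.coprime_dvd_right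
          (L.orderOf_dvd_natCard (L.mul_mem (L.inv_mem hx) (hcj x hx))) hc.symm))
    rw [MulAut.conj_apply] at h3
    rw [h3, inv_mul_cancel]
  have : Fintype K := Fintype.ofFinite K
  have hs := sum_eq_card_of_fpf (autEnd A) K hhK hf (by
    rw [Nat.sub_add_cancel hp.out.one_lt.le]
    refine AddMonoidHom.ext fun a => ?_
    have h1 := congrArg Additive.ofMul (hN a.toMul)
    rw [ofMul_prod] at h1
    exact (AddMonoidHom.finset_sum_apply _ _ a).trans h1)
  have hK1 : ∀ k ∈ K, k = 1 := by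
    intro k hk
    have h1 : autEnd A k * ∑ k : K, autEnd A k = ∑ k : K, autEnd A k := by
      rw [Finset.mul_sum, ← (Group.mulLeft_bijective (⟨k, hk⟩ : K)).sum_comp
        (fun k : K => autEnd A k)]
      exact Finset.sum_congr rfl fun x _ => (map_mul _ _ _).symm
    rw [hs] at h1
    ext a
    have h2 : (k a) ^ Fintype.card K = a ^ Fintype.card K := by
      have h3 := congrArg (fun f : AddMonoid.End (Additive A) => (f (Additive.ofMul a)).toMul) h1
      rw [← map_pow]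
      exact h3
    have h4 : (a⁻¹ * k a) ^ Fintype.card K = 1 := by rw [mul_pow, h2, inv_pow, inv_mul_cancel]
    have h5 := eq_one_of_coprime_of_mem (hA.to_subgroup ⊤) (mem_top (a⁻¹ * k a))
      (Nat.Coprime.coprime_dvd_left (orderOf_dvd_of_pow_eq_one h4) (by
        rw [← Nat.card_eq_fintype_card]; exact hc.coprime_dvd_left (card_dvd_of_le hKL)))
    exact (inv_mul_eq_one.1 h5).symm
  intro x hx
  have := inv_mul_eq_one.1 (hK1 _ ⟨x, hx, rfl⟩)
  exact (mul_inv_eq_iff_eq_mul.1 this.symm).symm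

end Cfsg.Agent.H62
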