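import Cfsg.Agent.H62.MaxCl4

/-! Automorphisms of `p`-groups of maximal class: eigenvalues on the lower central factors. -/

set_option autoImplicit false

namespace Cfsg.Agent.H62

open Subgroup
open scoped commutatorElement

variable {G : Type*} [Group G] {p n : ℕ}

theorem comm_eig {k a c : ℕ} {y y' s s' : G} (hy : y ∈ LL G k) (h1 : (y ^ a)⁻¹ * y' ∈ LL G (k + 1))
    (h2 : (s ^ c)⁻¹ * s' ∈ KK G k) : (⁅y, s⁆ ^ (a * c))⁻¹ * ⁅y', s'⁆ ∈ LL G (k + 2) := by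
  obtain ⟨l, hl, rfl⟩ : ∃ l ∈ LL G (k + 1), y' = y ^ a * l := ⟨_, h1, by group⟩
  obtain ⟨m, hm, rfl⟩ : ∃ m ∈ KK G k, s' = s ^ c * m := ⟨_, h2, by group⟩
  have e1 : ⁅y ^ a * l, s ^ c * m⁆ = y ^ a * ⁅l, s ^ c * m⁆ * (y ^ a)⁻¹ *
      (⁅y ^ a, s ^ c⁆ * (s ^ c * ⁅y ^ a, m⁆ * (s ^ c)⁻¹)) := by
    simp only [commutatorElement_def]; group
  have e2 : ((⁅y ^ a, s ^ c⁆ : G) : G ⧸ LL G (k + 2)) = ((⁅y, s⁆ ^ (a * c) : G) : G ⧸ LL G (k + 2)) := by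
    have c1 := comm_pow_right_of_center (y := ((y ^ a : G) : G ⧸ LL G (k + 2)))
      (g := (s : G ⧸ LL G (k + 2))) (mk_mem_center (LL_comm' (pow_mem hy a) s)) c
    have c2 := comm_pow_left_of_center (y := (y : G ⧸ LL G (k + 2)))
      (g := (s : G ⧸ LL G (k + 2))) (mk_mem_center (LL_comm' hy s)) a
    rw [pow_mul]
    exact c1.trans (congrArg (· ^ c) c2)
  rw [← QuotientGroup.eq, e1, QuotientGroup.mk_mul, QuotientGroup.mk_mul _ ⁅y ^ a, s ^ c⁆, e2,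
    (QuotientGroup.eq_one_iff _).2 (LL_conj (LL_comm' hl _) _),
    (QuotientGroup.eq_one_iff _).2 (LL_conj (hm _ (pow_mem hy a)) _), one_mul, mul_one]

theorem modEq_of_pow [hp : Fact p.Prime] {N : Subgroup G} [N.Normal] {y : G} (hy : y ∉ N)
    (hyp : y ^ p ∈ N) {a b : ℕ} (h : (y ^ a)⁻¹ * y ^ b ∈ N) : a ≡ b [MOD p] := by
  have h1 : orderOf (y : G ⧸ N) = p := orderOf_eq_prime ((QuotientGroup.eq_one_iff _).2 hyp)
    fun e => hy ((QuotientGroup.eq_one_iff _).1 e)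
  rw [← h1, ← pow_eq_pow_iff_modEq]
  exact QuotientGroup.eq.2 h

theorem aut_mem_LL (φ : MulAut G) {k : ℕ} {y : G} (hy : y ∈ LL G k) : φ y ∈ LL G k :=
  (characteristic_iff_le_comap.1 inferInstance φ) hy

theorem aut_mem_KK (φ : MulAut G) {k : ℕ} {g : G} (hg : g ∈ KK G k) : φ g ∈ KK G k := fun y hy => by
  have := aut_mem_LL φ (hg _ (aut_mem_LL φ⁻¹ hy))
  rwa [map_commutatorElement, MulAut.apply_inv_self] at this

namespace MC

variable [Finite G] [hp : Fact p.Prime] (h : MC G p n)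
include h

theorem card_KK_le {k : ℕ} (hk : k + 3 ≤ n) : Nat.card (KK G k) ≤ p * Nat.card (LL G 1) := by
  have := h.card_le_mul_inf (h.KK_ne_top hk)
  rwa [inf_eq_right.2 (LL_one_le_KK (G := G) k)] at this

theorem exists_pow_KK {k : ℕ} (hk : k + 3 ≤ n) {w : G} (hw : w ∈ KK G k) (hw' : w ∉ LL G 1) {a : G}
    (ha : a ∈ KK G k) : ∃ i : ℕ, (w ^ i)⁻¹ * a ∈ LL G 1 :=
  exists_pow_of_card h.isPGroup (LL_one_le_KK k) (h.card_KK_le hk) hw hw' ha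

theorem comm_KK_mem {k : ℕ} (hk : k + 3 ≤ n) {N : Subgroup G} [N.Normal]
    (hN : ∀ l ∈ LL G 1, ∀ g ∈ KK G k, ⁅l, g⁆ ∈ N) {a b : G} (ha : a ∈ KK G k) (hb : b ∈ KK G k) :
    ⁅a, b⁆ ∈ N := by
  by_cases hc : a ∈ LL G 1
  · exact hN a hc b hb
  obtain ⟨j, hj⟩ := h.exists_pow_KK hk ha hc hb
  have e2 : b = a ^ j * ((a ^ j)⁻¹ * b) := by group
  rw [e2, ← commutatorElement_inv]
  refine inv_mem (comm_mul_left_mem ?_ (hN _ hj a ha))
  rw [(Commute.pow_self a j).commutator_eq]; exact one_mem _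

theorem comm_not_mem {k : ℕ} (hk1 : 1 ≤ k) (hk : k + 3 ≤ n) {s x : G} (hs : s ∉ KK G k)
    (hx : x ∈ KK G k) (hx' : x ∉ LL G 1) : ⁅x, s⁆ ∉ LL G 2 := fun e => by
  refine hx' (h.KK_zero ▸ fun y _ => ?_)
  obtain ⟨a, ha⟩ := h.KK_sup hs hk1 y
  have e2 : y = s ^ a * ((s ^ a)⁻¹ * y) := by group
  rw [e2]
  refine commL_mul (commL_pow ?_ a) (h.comm_KK_mem hk (fun l hl g _ => LL_comm' hl g) ha hx)
  rw [← commutatorElement_inv]; exact inv_mem e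

theorem exists_KK {k : ℕ} (hk1 : 1 ≤ k) (hk : k + 3 ≤ n) : ∃ w ∈ KK G k, w ∉ LL G 1 := by
  obtain ⟨s, hs⟩ := h.exists_unif
  by_contra hc
  push Not at hc
  refine h.not_le_succ (k := 1) (by omega) ?_
  change ⁅(⊤ : Subgroup G), ⊤⁆ ≤ _
  rw [commutator_le]
  intro a _ b _
  obtain ⟨i, hi⟩ := h.KK_sup (hs k (by omega)) hk1 a
  obtain ⟨j, hj⟩ := h.KK_sup (hs k (by omega)) hk1 b
  have e1 : a = s ^ i * ((s ^ i)⁻¹ * a) := by group
  have e2 : b = s ^ j * ((s ^ j)⁻¹ * b) := by group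
  rw [e1]
  refine commL_mul ?_ (LL_comm' (hc _ hi) _)
  rw [e2, ← commutatorElement_inv]
  refine inv_mem (commL_mul ?_ (LL_comm' (hc _ hj) _))
  rw [(Commute.pow_pow_self s j i).commutator_eq]; exact one_mem _

theorem card_KK {k : ℕ} (hk1 : 1 ≤ k) (hk : k + 3 ≤ n) : Nat.card (KK G k) = p ^ (n - 1) := by
  obtain ⟨w, hw, hw'⟩ := h.exists_KK hk1 hk
  have h1 := H4.mul_card_le_of_lt (h.isPGroup.to_subgroup _)
    (lt_of_le_of_ne (LL_one_le_KK (G := G) k) fun e => hw' (e ▸ hw))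
  rw [le_antisymm (h.card_KK_le hk) h1, h.card_LL le_rfl (by omega), ← pow_succ']
  congr 1; omega

end MC

theorem MC.comm_four [Finite G] [hp : Fact p.Prime] (h : MC G p 4) {a b : G} (ha : a ∈ KK G 1)
    (hb : b ∈ KK G 1) : a * b = b * a :=
  commutatorElement_eq_one_iff_mul_comm.1 (h.comm_KK_mem (N := ⊥) le_rfl
    (fun l hl g hg => h.LL_eq_bot (k := 3) le_rfl ▸ hg l hl) ha hb)

theorem MC.aut_four [Finite G] [hp : Fact p.Prime] (h : MC G p 4) (hp3 : 3 ≤ p) (φ : MulAut G)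
    {u v : G} (hu : u ∈ LL G 2) (hu1 : u ≠ 1) (hv : v ∉ KK G 1) {a c : ℕ} (fu : φ u = u ^ a)
    (fv : (v ^ c)⁻¹ * φ v ∈ LL G 1) (hac : ¬ a * c * c ≡ a [MOD p]) {k : G} (hk : k ∈ KK G 1) :
    k ^ p = 1 := by
  have b3 := h.LL_eq_bot (k := 3) le_rfl
  have hL : ∀ l ∈ LL G 1, l ^ p = 1 := fun l hl => by
    have := h.pow_mem_LL le_rfl hl
    rwa [h.LL_eq_bot (by omega), mem_bot] at this
  by_contra hkp
  have hk' : k ∉ LL G 1 := fun e => hkp (hL k e)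
  have hZ : ∀ z ∈ LL G 2, φ z = z ^ a := fun z hz => by
    obtain ⟨i, hi⟩ := h.exists_pow (k := 2) (by omega) hu (by rwa [b3]) hz
    rw [b3, mem_bot, inv_mul_eq_one] at hi
    rw [← hi, map_pow, fu, ← pow_mul, ← pow_mul, mul_comm]
  have h1 : k ^ p ∈ LL G 2 := h.center_le (mem_center_iff.2 fun g => by
    have e1 : g * k * g⁻¹ = ⁅g, k⁆ * k := by simp [commutatorElement_def]
    have c := LL_comm' (i := 0) (mem_top g) k
    rw [← mul_inv_eq_iff_eq_mul, ← conj_pow, e1,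
      (show Commute ⁅g, k⁆ k from h.comm_four (LL_one_le_KK 1 c) hk).mul_pow, hL _ c, one_mul])
  obtain ⟨β, hβ⟩ := h.exists_pow_KK le_rfl hk hk' (aut_mem_KK φ hk)
  have h2 : a ≡ β [MOD p] := by
    refine modEq_of_pow (N := ⊥) (y := k ^ p) hkp (hL _ (LL_anti (by omega) h1)) ?_
    have e1 : φ k = k ^ β * ((k ^ β)⁻¹ * φ k) := by group
    rw [← hZ _ h1, map_pow, e1, (show Commute (k ^ β) _ from
      h.comm_four (pow_mem hk β) (LL_one_le_KK 1 hβ)).mul_pow, hL _ hβ, mul_one, ← pow_mul,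
      ← pow_mul, mul_comm]
    simp
  have y1 : ⁅k, v⁆ ∈ LL G 1 := LL_comm' (i := 0) (mem_top k) v
  have y2 := h.comm_not_mem le_rfl le_rfl hv hk hk'
  have y3 := comm_eig (k := 0) (mem_top k) hβ (LL_one_le_KK 0 fv)
  rw [← map_commutatorElement] at y3
  have z1 := LL_comm' y1 v
  have z2 : ⁅⁅k, v⁆, v⁆ ∉ LL G 3 := fun e => y2 (h.mem_of_comm_mem le_rfl hv y1 e)
  have z3 := comm_eig y1 y3 (LL_one_le_KK 1 fv)
  rw [← map_commutatorElement, hZ _ z1] at z3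
  exact hac (((h2.mul_right c).mul_right c).trans
    (modEq_of_pow z2 (h.pow_mem_succ (by omega) z1) z3))

theorem MC.exists_elem_cube [Finite G] [hp : Fact p.Prime] (h : MC G p n) (hp4 : 4 ≤ p) (hn : 5 ≤ n) :
    IsElementaryAbelian p (LL G (n - 4)) ∧ Nat.card (LL G (n - 4)) = p ^ 3 := by
  refine ⟨⟨⟨⟨fun a b => Subtype.ext (commutatorElement_eq_one_iff_mul_comm.1 ?_)⟩⟩, fun a ha => ?_⟩,
    by rw [h.card_LL (by omega) (by omega)]; congr 1; omega⟩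
  · have := h.comm_self_le (by omega) (commutator_mem_commutator a.2 b.2)
    rwa [h.LL_eq_bot (by omega), mem_bot] at this
  · have := h.pow_mem_LL (by omega) ha
    rwa [h.LL_eq_bot (by omega), mem_bot] at this

end Cfsg.Agent.H62
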