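import Mathlib
import Cfsg.Agent.H3.NilpotentHall
import Cfsg.Agent.H3.PComplement

/-! Orders of nilpotent permutation groups: orbit-counting bounds. -/

set_option autoImplicit false

namespace Cfsg.Agent.H62.NilSym

open MulAction Subgroup

universe u v

/-- number of orbits -/
noncomputable def nOrb (G : Type*) (X : Type*) [Group G] [MulAction G X] : ℕ :=
  Nat.card (orbitRel.Quotient G X)

theorem nOrb_pos {G X : Type*} [Group G] [MulAction G X] [Finite X] (x : X) : 1 ≤ nOrb G X := by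
  haveI : Nonempty (orbitRel.Quotient G X) := ⟨Quotient.mk _ x⟩
  exact Nat.card_pos

theorem nOrb_le {G X : Type*} [Group G] [MulAction G X] [Finite X] : nOrb G X ≤ Nat.card X :=
  Nat.card_le_card_of_surjective _ Quotient.mk_surjective

theorem index_prime_of_coatom {G : Type*} [Group G] [Finite G] {M : Subgroup G} [M.Normal] (h : IsCoatom M) :
    M.index.Prime := by
  obtain ⟨p, hp, hd⟩ := Nat.exists_prime_and_dvd (n := M.index) (by rw [Ne, index_eq_one]; exact h.1)
  haveI := Fact.mk hp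
  obtain ⟨g, hg⟩ := exists_prime_orderOf_dvd_card' (G := G ⧸ M) p hd
  have h1 : (zpowers g).comap (QuotientGroup.mk' M) = ⊤ := by
    refine h.2 _ (lt_of_le_of_ne (fun x hx => ?_) fun h' => ?_)
    · rw [mem_comap, QuotientGroup.mk'_apply, (QuotientGroup.eq_one_iff x).2 hx]; exact one_mem _
    · obtain ⟨y, rfl⟩ := QuotientGroup.mk'_surjective M g
      have : y ∈ M := h' ▸ mem_zpowers _
      rw [QuotientGroup.mk'_apply, (QuotientGroup.eq_one_iff y).2 this, orderOf_one] at hg
      exact hp.one_lt.ne hg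
  have h2 : zpowers g = ⊤ := by
    rw [← map_comap_eq_self_of_surjective (QuotientGroup.mk'_surjective M) (zpowers g), h1,
      ← MonoidHom.range_eq_map, MonoidHom.range_eq_top.2 (QuotientGroup.mk'_surjective M)]
  rw [index_eq_card, ← card_top, ← h2, Nat.card_zpowers, hg]
  exact hp

theorem exists_step {G X : Type*} [Group G] [Finite G] [Group.IsNilpotent G] [MulAction G X] [Finite X]
    (x : X) (hx : stabilizer G x ≠ ⊤) :
    ∃ M : Subgroup G, stabilizer G x ≤ M ∧ M.index.Prime ∧ nOrb G X + M.index ≤ nOrb M X + 1 := by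
  classical
  obtain ⟨M, hM, hle⟩ := (eq_top_or_exists_le_coatom _).resolve_left hx
  haveI := NormalizerCondition.normal_of_coatom M normalizerCondition_of_isNilpotent hM
  refine ⟨M, hle, index_prime_of_coatom hM, ?_⟩
  let f : {ω : orbitRel.Quotient G X // ω ≠ Quotient.mk _ x} ⊕ (G ⧸ M) → orbitRel.Quotient M X :=
    Sum.elim (fun ω => Quotient.mk _ ω.1.out) (fun c => Quotient.mk _ (c.out • x))
  have key : ∀ a b : X, (Quotient.mk _ a : orbitRel.Quotient M X) = Quotient.mk _ b →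
      (Quotient.mk _ a : orbitRel.Quotient G X) = Quotient.mk _ b := fun a b h => by
    obtain ⟨m, hm⟩ := Quotient.exact h
    exact Quotient.sound ⟨m, hm⟩
  have key2 : ∀ g : G, (Quotient.mk _ (g • x) : orbitRel.Quotient G X) = Quotient.mk _ x :=
    fun g => Quotient.sound ⟨g, rfl⟩
  have hf : Function.Injective f := by
    rintro (a | a) (b | b) h
    · have := key _ _ h
      rw [Quotient.out_eq, Quotient.out_eq] at this
      rw [Subtype.ext this]
    · have := key _ _ h
      rw [Quotient.out_eq, key2] at this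
      exact absurd this a.2
    · have := key _ _ h
      rw [Quotient.out_eq, key2] at this
      exact absurd this.symm b.2
    · obtain ⟨m, hm⟩ := Quotient.exact h
      have h1 : a.out⁻¹ * (m : G) * b.out ∈ M := hle (by
        rw [mem_stabilizer_iff, mul_smul, mul_smul, inv_smul_eq_iff]; exact hm)
      have h2 : a.out⁻¹ * b.out ∈ M := by
        have := mul_mem (‹M.Normal›.conj_mem _ (inv_mem m.2) a.out⁻¹) h1
        simpa [mul_assoc] using this
      rw [← Quotient.out_eq a, ← Quotient.out_eq b]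
      exact congrArg _ (QuotientGroup.eq.2 h2)
  have h1 := Nat.card_le_card_of_injective f hf
  have h2 : _ = Nat.card (orbitRel.Quotient G X) :=
    Nat.card_congr (Equiv.optionSubtypeNe (Quotient.mk _ x : orbitRel.Quotient G X))
  rw [Finite.card_option] at h2
  rw [Nat.card_sum, ← index_eq_card] at h1
  unfold nOrb
  rw [← h2, add_right_comm]
  exact Nat.add_le_add_right h1 1

theorem card_pow_le {X : Type v} [Finite X] (e b : ℕ) (hb : 1 ≤ b) (n : ℕ) :
    ∀ (G : Type u) [Group G] [Finite G] [Group.IsNilpotent G] [MulAction G X] [FaithfulSMul G X],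
      Nat.card G = n → (∀ p, p.Prime → p ∣ Nat.card G → p ^ e ≤ b ^ (p - 1)) →
      Nat.card G ^ e * b ^ nOrb G X ≤ b ^ Nat.card X := by
  induction n using Nat.strong_induction_on with
  | _ n ih =>
  intro G _ _ _ _ _ hn hp
  by_cases h : ∀ x : X, stabilizer G x = ⊤
  · have : Subsingleton G := ⟨fun a b => eq_of_smul_eq_smul (α := X) fun x => by
      rw [mem_stabilizer_iff.1 (h x ▸ mem_top a), mem_stabilizer_iff.1 (h x ▸ mem_top b)]⟩
    rw [Nat.card_of_subsingleton (1 : G), one_pow, one_mul]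
    exact Nat.pow_le_pow_right hb nOrb_le
  push Not at h
  obtain ⟨x, hx⟩ := h
  obtain ⟨M, -, h2, h3⟩ := exists_step x hx
  have h4 := M.card_mul_index
  have h5 := ih (Nat.card M) (by rw [← hn, ← h4]; nlinarith [h2.two_le, Nat.card_pos (α := M)]) M rfl
    fun p hp' hd => hp p hp' (hd.trans M.card_subgroup_dvd_card)
  have h6 := hp _ h2 M.index_dvd_card
  have h7 := h2.two_le
  calc Nat.card G ^ e * b ^ nOrb G X = Nat.card M ^ e * (M.index ^ e * b ^ nOrb G X) := by
        rw [← h4, mul_pow, mul_assoc]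
    _ ≤ Nat.card M ^ e * (b ^ (M.index - 1) * b ^ nOrb G X) := by gcongr
    _ ≤ Nat.card M ^ e * b ^ nOrb M X := by
        rw [← pow_add]; exact Nat.mul_le_mul_left _ (Nat.pow_le_pow_right hb (by omega))
    _ ≤ _ := h5

theorem le_two_pow (p : ℕ) (hp : 1 ≤ p) : p ^ 1 ≤ 2 ^ (p - 1) := by
  obtain ⟨k, rfl⟩ := Nat.exists_eq_add_of_le' hp
  simpa using Nat.lt_two_pow_self

theorem sq_le_three_pow (p : ℕ) (hp : 3 ≤ p) : p ^ 2 ≤ 3 ^ (p - 1) := by
  induction p, hp using Nat.le_induction with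
  | base => norm_num
  | succ k hk ih =>
    have : k + 1 - 1 = k - 1 + 1 := by omega
    rw [this, pow_succ 3]; nlinarith

theorem three_sq_le_three_pow (p : ℕ) (hp : 5 ≤ p) : 3 * p ^ 2 ≤ 3 ^ (p - 1) := by
  induction p, hp using Nat.le_induction with
  | base => norm_num
  | succ k hk ih =>
    have : k + 1 - 1 = k - 1 + 1 := by omega
    rw [this, pow_succ 3]; nlinarith

theorem three_le_of_odd {p n : ℕ} (hp : p.Prime) (hn : Odd n) (h : p ∣ n) : 3 ≤ p := by
  have := hp.two_le
  have : p ≠ 2 := by rintro rfl; exact (Nat.not_even_iff_odd.2 hn) (even_iff_two_dvd.2 h)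
  omega

theorem card_le_two {G X : Type*} [Finite X] [Group G] [Finite G] [Group.IsNilpotent G] [MulAction G X]
    [FaithfulSMul G X] : Nat.card G * 2 ^ nOrb G X ≤ 2 ^ Nat.card X := by
  simpa using card_pow_le (X := X) 1 2 (by norm_num) _ G rfl fun p hp _ => le_two_pow p hp.one_le

theorem card_le_odd {G X : Type*} [Finite X] [Group G] [Finite G] [Group.IsNilpotent G] [MulAction G X]
    [FaithfulSMul G X] (ho : Odd (Nat.card G)) : Nat.card G ^ 2 * 3 ^ nOrb G X ≤ 3 ^ Nat.card X :=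
  card_pow_le (X := X) 2 3 (by norm_num) _ G rfl fun p hp hd => sq_le_three_pow p (three_le_of_odd hp ho hd)

theorem card_le_odd' {X : Type v} [Finite X] (x : X) {q : ℕ} (hq : q.Prime) (h5 : 5 ≤ q) (n : ℕ) :
    ∀ (G : Type u) [Group G] [Finite G] [Group.IsNilpotent G] [MulAction G X] [FaithfulSMul G X],
      Nat.card G = n → Odd (Nat.card G) → q ∣ (stabilizer G x).index →
      3 * Nat.card G ^ 2 * 3 ^ nOrb G X ≤ 3 ^ Nat.card X := by
  induction n using Nat.strong_induction_on with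
  | _ n ih =>
  intro G _ _ _ _ _ hn ho hd
  obtain ⟨M, h1, h2, h3⟩ := exists_step (G := G) x (by
    intro h; rw [h, index_top, Nat.dvd_one] at hd; omega)
  have h4 := M.card_mul_index
  have hoM : Odd (Nat.card M) := ho.of_dvd_nat M.card_subgroup_dvd_card
  have h7 := three_le_of_odd h2 ho M.index_dvd_card
  by_cases h8 : 5 ≤ M.index
  · calc 3 * Nat.card G ^ 2 * 3 ^ nOrb G X = Nat.card M ^ 2 * (3 * M.index ^ 2 * 3 ^ nOrb G X) := by
          rw [← h4]; ring
      _ ≤ Nat.card M ^ 2 * (3 ^ (M.index - 1) * 3 ^ nOrb G X) := by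
          gcongr; exact three_sq_le_three_pow _ h8
      _ ≤ Nat.card M ^ 2 * 3 ^ nOrb M X := by
          rw [← pow_add]; exact Nat.mul_le_mul_left _ (Nat.pow_le_pow_right (by norm_num) (by omega))
      _ ≤ _ := card_le_odd hoM
  · have h9 : q ∣ (stabilizer M x).index := by
      have e : stabilizer M x = (stabilizer G x).subgroupOf M := rfl
      rw [← relIndex_mul_index h1] at hd
      rcases (Nat.Prime.dvd_mul hq).1 hd with h | h
      · exact h
      · have := Nat.le_of_dvd h2.pos h; omega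
    have h5 := ih (Nat.card M) (by rw [← hn, ← h4]; nlinarith [Nat.card_pos (α := M)]) M rfl hoM h9
    calc 3 * Nat.card G ^ 2 * 3 ^ nOrb G X = 3 * Nat.card M ^ 2 * (M.index ^ 2 * 3 ^ nOrb G X) := by
          rw [← h4]; ring
      _ ≤ 3 * Nat.card M ^ 2 * (3 ^ (M.index - 1) * 3 ^ nOrb G X) := by
          exact Nat.mul_le_mul_left _ (Nat.mul_le_mul_right _ (sq_le_three_pow _ h7))
      _ ≤ 3 * Nat.card M ^ 2 * 3 ^ nOrb M X := by
          rw [← pow_add]; exact Nat.mul_le_mul_left _ (Nat.pow_le_pow_right (by norm_num) (by omega))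
      _ ≤ _ := h5

/-- decomposition of a finite nilpotent group into its 2-part and odd part -/
theorem exists_split (G : Type*) [Group G] [Finite G] [Group.IsNilpotent G] :
    ∃ P Q : Subgroup G, P.Normal ∧ Q.Normal ∧ IsPGroup 2 P ∧ Odd (Nat.card Q) ∧
      Nat.card P * Nat.card Q = Nat.card G ∧ (∀ a ∈ P, ∀ b ∈ Q, a * b = b * a) ∧
      ∀ g : G, ∃ a ∈ P, ∃ b ∈ Q, g = a * b := by
  obtain ⟨P, Q, hQ, hc⟩ := H3.hasNormalPComplement_of_isNilpotent (G := G) (p := 2)
  have hP : (P : Subgroup G).Normal := inferInstance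
  refine ⟨P, Q, hP, hQ, P.isPGroup', ?_, hc.symm.card_mul, fun a ha b hb => ?_, fun g => ?_⟩
  · rw [← hc.index_eq_card, ← Nat.not_even_iff_odd, even_iff_two_dvd]
    exact P.not_dvd_index
  · exact commute_of_normal_of_disjoint _ _ hP hQ hc.symm.disjoint a b ha hb
  · obtain ⟨⟨a, b⟩, h, -⟩ := hc.symm.existsUnique g
    exact ⟨a, a.2, b, b.2, h.symm⟩

theorem faithful_orbit {G X : Type*} [Group G] [MulAction G X] [FaithfulSMul G X] [IsPretransitive G X]
    {A B : Subgroup G} (hc : ∀ a ∈ A, ∀ b ∈ B, a * b = b * a) (hg : ∀ g : G, ∃ b ∈ B, ∃ a ∈ A, g = b * a)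
    (x : X) : FaithfulSMul A (orbit A x) := by
  refine ⟨fun {a a'} h => Subtype.ext (eq_of_smul_eq_smul (α := X) fun y => ?_)⟩
  obtain ⟨g, rfl⟩ := exists_smul_eq G x y
  obtain ⟨b, hb, c, hc', rfl⟩ := hg g
  have := congrArg Subtype.val (h ⟨(⟨c, hc'⟩ : A) • x, mem_orbit _ _⟩)
  change (a : G) • c • x = (a' : G) • c • x at this
  rw [mul_smul, ← mul_smul, hc _ a.2 _ hb, mul_smul, this, ← mul_smul, ← hc _ a'.2 _ hb, mul_smul]

/-- bound for the square of the order -/
def H (d : ℕ) : ℕ :=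
  if d = 0 then 1 else if d = 1 ∨ d = 2 ∨ d = 4 then 0 else if d = 7 then 49 else
    if d = 3 ∨ d = 9 ∨ 24 ≤ d then 3 ^ (d - 1) else 3 ^ (d - 2)

theorem H_le (d : ℕ) (hd : d ≠ 0) : H d ≤ 3 ^ (d - 1) := by
  unfold H
  split_ifs with h1 h2 h3
  · omega
  · exact Nat.zero_le _
  · subst h3; norm_num
  · rfl
  · exact Nat.pow_le_pow_right (by norm_num) (by omega)

theorem le_H (d : ℕ) (h0 : d ≠ 0) (h1 : d ≠ 1) (h2 : d ≠ 2) (h4 : d ≠ 4) (h7 : d ≠ 7) : 3 ^ (d - 2) ≤ H d := by
  unfold H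
  rw [if_neg h0, if_neg (by omega), if_neg h7]
  split_ifs
  · exact Nat.pow_le_pow_right (by norm_num) (by omega)
  · rfl

theorem H_mul (a b : ℕ) : H a * H b ≤ H (a + b) := by
  by_cases ha : a = 0
  · subst ha; simp [H]
  by_cases hb : b = 0
  · subst hb; simp [H]
  by_cases h : a + b ≤ 7
  · have h1 : a ≤ 7 := by omega
    have h2 : b ≤ 7 := by omega
    interval_cases a <;> interval_cases b <;> simp_all [H]
  refine (Nat.mul_le_mul (H_le a ha) (H_le b hb)).trans (le_trans ?_ (le_H _ ?_ ?_ ?_ ?_ ?_)) <;> try omega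
  rw [← pow_add]; exact Nat.pow_le_pow_right (by norm_num) (by omega)

theorem four_pow_le (a e : ℕ) (ha : 2 ≤ a) (he : 3 ≤ e) : 4 ^ (a - 1) * 3 ^ (e - 1) ≤ 3 ^ (a * e - 2) := by
  obtain ⟨a, rfl⟩ := Nat.exists_eq_add_of_le' ha
  have h1 : 4 ^ (a + 1) ≤ 9 ^ (a + 1) := Nat.pow_le_pow_left (by norm_num) _
  have h2 : (9 : ℕ) ^ (a + 1) = 3 ^ (2 * (a + 1)) := by rw [pow_mul]; norm_num
  calc 4 ^ (a + 2 - 1) * 3 ^ (e - 1) ≤ 3 ^ (2 * (a + 1)) * 3 ^ (e - 1) := by
        rw [← h2]; exact Nat.mul_le_mul_right _ h1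
    _ ≤ _ := by
        rw [← pow_add]
        refine Nat.pow_le_pow_right (by norm_num) ?_
        have : 3 * (a + 1) ≤ e * (a + 1) := Nat.mul_le_mul_right _ he
        have : (a + 2) * e = e * (a + 1) + e := by ring
        omega

theorem card_trans_le {G X : Type*} [Finite X] [Group G] [Finite G] [Group.IsNilpotent G] [MulAction G X]
    [FaithfulSMul G X] [IsPretransitive G X] (x : X) (h2 : ¬ IsPGroup 2 G) :
    Nat.card G ^ 2 ≤ H (Nat.card X) := by
  obtain ⟨P, Q, hP, hQ, p2, oQ, hc, hcm, hg⟩ := exists_split G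
  haveI := faithful_orbit (A := P) (B := Q) hcm (fun g => by
    obtain ⟨a, ha, b, hb, rfl⟩ := hg g; exact ⟨b, hb, a, ha, hcm a ha b hb⟩) x
  haveI := faithful_orbit (A := Q) (B := P) (fun a ha b hb => (hcm b hb a ha).symm) hg x
  have b1 := card_le_two (G := P) (X := orbit P x)
  have b2 := card_le_odd (G := Q) (X := orbit Q x) oQ
  have n1 := nOrb_pos (G := P) (X := orbit P x) ⟨x, mem_orbit_self x⟩
  have n2 := nOrb_pos (G := Q) (X := orbit Q x) ⟨x, mem_orbit_self x⟩
  have hd : Nat.card X = (stabilizer G x).index := (index_stabilizer_of_transitive G x).symm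
  have ea : Nat.card (orbit P x) = (stabilizer P x).index := by rw [index_stabilizer, Nat.card_coe_set_eq]
  have ee : Nat.card (orbit Q x) = (stabilizer Q x).index := by rw [index_stabilizer, Nat.card_coe_set_eq]
  have da : Nat.card (orbit P x) ∣ Nat.card X := by
    rw [ea, hd]; exact H3.relIndex_dvd_index_of_normal_right (stabilizer G x) P
  have de : Nat.card (orbit Q x) ∣ Nat.card X := by
    rw [ee, hd]; exact H3.relIndex_dvd_index_of_normal_right (stabilizer G x) Q
  have oe : Odd (Nat.card (orbit Q x)) := ee ▸ oQ.of_dvd_nat (index_dvd_card _)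
  obtain ⟨j, hj⟩ : ∃ j, Nat.card (orbit P x) = 2 ^ j := by
    obtain ⟨k, hk⟩ := IsPGroup.iff_card.1 p2
    obtain ⟨j, -, hj⟩ := (Nat.dvd_prime_pow Nat.prime_two).1 (hk ▸ ea ▸ index_dvd_card (stabilizer P x))
    exact ⟨j, hj⟩
  have hX : 0 < Nat.card X := by haveI : Nonempty X := ⟨x⟩; exact Nat.card_pos
  have dae : Nat.card (orbit P x) * Nat.card (orbit Q x) ∣ Nat.card X :=
    Nat.Coprime.mul_dvd_of_dvd_of_dvd (hj ▸ (Nat.Coprime.pow_left _ ((Nat.coprime_two_left).2 oe))) da de
  have b1' : Nat.card P * 2 ≤ 2 ^ Nat.card (orbit P x) :=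
    le_trans (Nat.mul_le_mul_left _ (Nat.le_self_pow (by omega) 2)) b1
  have b2' : Nat.card Q ^ 2 * 3 ≤ 3 ^ Nat.card (orbit Q x) :=
    le_trans (Nat.mul_le_mul_left _ (Nat.le_self_pow (by omega) 3)) b2
  have hQ1 : Nat.card Q ≠ 1 := fun h => h2 (by
    obtain ⟨k, hk⟩ := IsPGroup.iff_card.1 p2
    exact IsPGroup.of_card (by rw [← hc, h, hk, mul_one]))
  have hQ0 : 0 < Nat.card Q := Nat.card_pos
  generalize Nat.card (orbit P x) = a at *
  generalize Nat.card (orbit Q x) = e at *
  have he : 3 ≤ e := by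
    by_contra h
    have : e ≤ 2 := by omega
    obtain ⟨k, hk⟩ := oe
    have : e = 1 := by omega
    subst this
    have : 2 ≤ Nat.card Q := by omega
    nlinarith
  have ha0 : 0 < a := hj ▸ Nat.two_pow_pos j
  have hle := Nat.le_of_dvd hX de
  have h4 : Nat.card X ≠ 4 := fun h => by
    rw [h] at de hle; obtain ⟨k, hk⟩ := oe; interval_cases e <;> omega
  by_cases ha : a = 1
  · subst ha
    have hP1 : Nat.card P = 1 := by have := Nat.card_pos (α := P); omega
    rw [hP1, one_mul] at hc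
    have oG : Odd (Nat.card G) := hc ▸ oQ
    have oX : Odd (Nat.card X) := hd ▸ oG.of_dvd_nat (index_dvd_card _)
    have n3 := nOrb_pos (G := G) x
    by_cases h7 : Nat.card X = 7
    · obtain ⟨M, m1, m2, m5⟩ := exists_step (G := G) x (by
        intro h; rw [h, index_top] at hd; omega)
      have m3 := index_dvd_of_le m1
      rw [← hd, h7, (Nat.prime_dvd_prime_iff_eq m2 (by norm_num))] at m3
      have b3 := card_le_odd (G := M) (X := X) (oG.of_dvd_nat M.card_subgroup_dvd_card)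
      have b4 : 3 ^ 7 ≤ 3 ^ nOrb M X := Nat.pow_le_pow_right (by norm_num) (by omega)
      have b5 : Nat.card M ^ 2 ≤ 1 := by
        rw [h7] at b3
        have := (Nat.mul_le_mul_left (Nat.card M ^ 2) b4).trans b3
        omega
      have b6 := M.card_mul_index
      rw [h7, ← b6, m3, mul_pow]
      have : H 7 = 49 := rfl
      omega
    by_cases h39 : Nat.card X = 3 ∨ Nat.card X = 9 ∨ 24 ≤ Nat.card X
    · have b3 := card_le_odd (G := G) (X := X) oG
      have : Nat.card G ^ 2 * 3 ≤ 3 ^ Nat.card X :=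
        le_trans (Nat.mul_le_mul_left _ (Nat.le_self_pow (by omega) 3)) b3
      unfold H
      rw [if_neg (by omega), if_neg (by omega), if_neg h7, if_pos h39]
      obtain ⟨k, hk⟩ : ∃ k, Nat.card X = k + 1 := ⟨Nat.card X - 1, by omega⟩
      rw [hk, pow_succ 3] at this
      rw [hk, Nat.add_sub_cancel]; omega
    · obtain ⟨q, hq, h5, hqd⟩ : ∃ q : ℕ, q.Prime ∧ 5 ≤ q ∧ q ∣ Nat.card X := by
        have h24 : Nat.card X < 24 := by omega
        obtain ⟨q, h1, h2⟩ := (by decide : ∀ d < 24, d % 2 = 1 → 3 < d → d ≠ 9 →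
          ∃ q ∈ [5, 7, 11, 13, 17, 19, 23], q ∣ d) _ h24 (Nat.odd_iff.1 oX) (by omega) (by omega)
        refine ⟨q, ?_, ?_, h2⟩ <;> fin_cases h1 <;> norm_num
      have b3 := card_le_odd' x hq h5 _ G rfl oG (hd ▸ hqd)
      have : 3 * Nat.card G ^ 2 * 3 ≤ 3 ^ Nat.card X :=
        le_trans (Nat.mul_le_mul_left _ (Nat.le_self_pow (by omega) 3)) b3
      refine le_trans ?_ (le_H _ (by omega) (by omega) (by omega) h4 h7)
      obtain ⟨k, hk⟩ : ∃ k, Nat.card X = k + 2 := ⟨Nat.card X - 2, by omega⟩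
      rw [hk, pow_add] at this
      rw [hk, Nat.add_sub_cancel]; omega
  · have h7 : Nat.card X ≠ 7 := fun h => by
      rw [h, Nat.dvd_prime (by norm_num)] at da
      rcases da with h' | h'
      · exact ha h'
      · have := Nat.le_of_dvd hX dae; rw [h', h] at this; omega
    refine le_trans ?_ (le_H _ (by omega) (by omega) (by omega) h4 h7)
    refine le_trans ?_ ((four_pow_le a e (by omega) he).trans
      (Nat.pow_le_pow_right (by norm_num) (Nat.sub_le_sub_right (Nat.le_of_dvd hX dae) 2)))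
    rw [← hc, mul_pow]
    refine Nat.mul_le_mul ?_ ?_
    · obtain ⟨k, rfl⟩ : ∃ k, a = k + 1 := ⟨a - 1, by omega⟩
      rw [pow_succ] at b1'
      rw [Nat.add_sub_cancel, show (4 : ℕ) = 2 ^ 2 by norm_num, ← pow_mul, mul_comm, pow_mul]
      exact Nat.pow_le_pow_left (by omega) 2
    · obtain ⟨k, rfl⟩ : ∃ k, e = k + 1 := ⟨e - 1, by omega⟩
      rw [pow_succ 3] at b2'
      rw [Nat.add_sub_cancel]; omega

end Cfsg.Agent.H62.NilSym
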