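import Cfsg.Agent.H62.NoFlag
import Cfsg.Agent.H42.Index2

/-! Consequences of the absence of characteristic flags. -/

set_option autoImplicit false

namespace Cfsg.Agent.H62

open Cfsg Subgroup
open scoped commutatorElement

variable {p : ℕ} {G : Type*} [Group G]

/-- The homomorphism `ZMod n → G` sending `1` to `a`. -/
def zHom (n : ℕ) [NeZero n] (a : G) (h : a ^ n = 1) : Multiplicative (ZMod n) →* G :=
  MonoidHom.mk' (fun s => a ^ s.toAdd.val) fun s t => by
    rw [toAdd_mul, ZMod.val_add, ← pow_eq_pow_mod _ h, pow_add]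

theorem zHom_apply (n : ℕ) [NeZero n] (a : G) (h : a ^ n = 1) (s : Multiplicative (ZMod n)) :
    zHom n a h s = a ^ s.toAdd.val := rfl

theorem zHom_natCast (n : ℕ) [NeZero n] (a : G) (h : a ^ n = 1) (k : ℕ) :
    zHom n a h (Multiplicative.ofAdd (k : ZMod n)) = a ^ k := by
  rw [zHom_apply, toAdd_ofAdd, ZMod.val_natCast, ← pow_eq_pow_mod _ h]

variable [Finite G] [hp : Fact p.Prime] (hG : IsPGroup p G)
include hG

theorem sq_mul_card_le {A B C : Subgroup G} (h1 : A < B) (h2 : B < C) :
    p ^ 2 * Nat.card A ≤ Nat.card C := by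
  have a := H50.mul_card_le_of_lt (hG.to_subgroup _) h1
  have b := H50.mul_card_le_of_lt (hG.to_subgroup _) h2
  calc p ^ 2 * Nat.card A = p * (p * Nat.card A) := by ring
    _ ≤ _ := (Nat.mul_le_mul_left p a).trans b

theorem card_mid {A B C : Subgroup G} (h1 : A < B) (h2 : B < C)
    (hc : Nat.card C ≤ p ^ 2 * Nat.card A) :
    Nat.card B = p * Nat.card A ∧ Nat.card C = p * Nat.card B := by
  have a := H50.mul_card_le_of_lt (hG.to_subgroup _) h1
  have b := H50.mul_card_le_of_lt (hG.to_subgroup _) h2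
  have c : Nat.card B ≤ p * Nat.card A := Nat.le_of_mul_le_mul_left
    (b.trans (hc.trans (le_of_eq (by ring)))) hp.out.pos
  refine ⟨le_antisymm c a, le_antisymm (hc.trans ?_) b⟩
  rw [sq, mul_assoc]
  exact Nat.mul_le_mul_left p a

theorem frattini_le_center (hc : Nat.card (frattini G) ≤ p) : frattini G ≤ center G := by
  by_cases h : frattini G = ⊥
  · rw [h]; exact bot_le
  obtain ⟨z, hz, hz', ho⟩ := H3.exists_mem_center_orderOf_eq hG _ h
  rw [← eq_of_le_of_card_ge (zpowers_le.2 hz) (by rwa [Nat.card_zpowers, ho])]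
  exact zpowers_le.2 hz'

theorem comm_mem_frattini (a b : G) : ⁅a, b⁆ ∈ frattini G :=
  H3.commutator_le_frattini hG (commutator_mem_commutator (mem_top a) (mem_top b))

theorem elem_of_frattini (h : Nat.card (frattini G) ≤ 1) :
    (∀ a b : G, a * b = b * a) ∧ ∀ a : G, a ^ p = 1 := by
  have h0 : frattini G = ⊥ := card_le_one_iff_eq_bot _ |>.1 h
  exact ⟨fun a b => commutatorElement_eq_one_iff_mul_comm.1
    (mem_bot.1 (h0 ▸ comm_mem_frattini hG a b)), fun a => mem_bot.1 (h0 ▸ H3.pow_mem_frattini hG a)⟩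

omit hG hp in
theorem card_le_ker_mul {K : Type*} [Group K] (f : G →* K) {I : Subgroup K} [Finite I]
    (h : ∀ x, f x ∈ I) : Nat.card G ≤ Nat.card I * Nat.card f.ker := by
  rw [← f.ker.index_mul_card, index_ker]
  have : f.range ≤ I := by rintro _ ⟨x, rfl⟩; exact h x
  exact Nat.mul_le_mul_right _ (Nat.card_le_card_of_injective _ (inclusion_injective this))

namespace NF
variable (h : NF p G)
include h

theorem irred {B₁ B : Subgroup G} [B₁.Characteristic] [B.Characteristic] (h1 : frattini G ≤ B₁)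
    (c1 : Nat.card B₁ ≤ p * Nat.card (frattini G)) (c2 : Nat.card G ≤ p ^ 2 * Nat.card B₁)
    (h2 : B₁ ≤ B) : B = B₁ ∨ B = ⊤ := by
  by_contra hc
  push Not at hc
  have := card_mid hG (h2.lt_of_ne hc.1.symm) hc.2.lt_top (by rwa [card_top])
  rw [card_top] at this
  exact h B₁ B inferInstance inferInstance h1 h2 c1 this.1.le this.2.le

theorem irred' {B : Subgroup G} [B.Characteristic]
    (c2 : Nat.card G ≤ p ^ 2 * Nat.card (frattini G)) (h2 : frattini G ≤ B) :
    B = frattini G ∨ B = ⊤ :=
  h.irred hG le_rfl (Nat.le_mul_of_pos_left _ hp.out.pos) c2 h2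

theorem sq_le : p ^ 2 * Nat.card (frattini G) ≤ Nat.card G := by
  by_contra hc
  have h0 := Nat.le_mul_of_pos_left (Nat.card (frattini G)) hp.out.pos
  refine h _ _ inferInstance inferInstance le_rfl le_rfl h0 h0 ?_
  obtain ⟨a, ha⟩ := hG.exists_card_eq
  obtain ⟨b, hb⟩ := (hG.to_subgroup (frattini G)).exists_card_eq
  rw [ha, hb, ← pow_add, Nat.pow_le_pow_iff_right hp.out.one_lt] at hc
  rw [ha, hb, ← pow_succ', Nat.pow_le_pow_iff_right hp.out.one_lt]
  omega

/-- The case of class two with elementary centre of index `p²`. -/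
theorem exp_of_odd (hodd : Odd p) (hΦ : Nat.card (frattini G) ≤ p)
    (c1 : Nat.card (center G) ≤ p * Nat.card (frattini G))
    (c2 : Nat.card G = p ^ 2 * Nat.card (center G)) (hZ : ∀ z ∈ center G, z ^ p = 1) (x : G) :
    x ^ p = 1 := by
  have h1 := frattini_le_center hG hΦ
  have h2 := (H3.commutator_le_frattini hG).trans h1
  let f : G →* G := MonoidHom.mk' (· ^ p) fun a b =>
    H3.mul_pow_of_odd_of_commute_commutator (H3.commute_commutator h2 _ _ _)
      (H3.commute_commutator h2 _ _ _) hodd (hZ _ (H3.commutator_mem_center h2 _ _))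
  have : f.ker.Characteristic := char_of_forall fun α y (hy : y ^ p = 1) =>
    show α y ^ p = 1 by rw [← map_pow, hy, map_one]
  rcases h.irred hG (B := f.ker) h1 c1 c2.le hZ with e | e
  · have := card_le_ker_mul f (H3.pow_mem_frattini hG)
    rw [e, c2] at this
    have := (Nat.le_of_mul_le_mul_right this Nat.card_pos).trans hΦ
    have := hp.out.one_lt
    nlinarith
  · exact (e ▸ mem_top x : x ∈ f.ker)

end NF

theorem center_lt_cent {x : G} (hx : x ∉ center G) :
    center G < centralizer {x} ∧ centralizer {x} < (⊤ : Subgroup G) :=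
  ⟨(center_le_centralizer _).lt_of_ne fun e => hx (e ▸ mem_centralizer_singleton_iff.2 rfl),
    lt_top_iff_ne_top.2 fun e => hx (mem_center_iff.2 fun g =>
      mem_centralizer_singleton_iff.1 (e ▸ mem_top g))⟩

omit hG in
theorem NF.sq_ne_one {G : Type*} [Group G] [Finite G] (hG : IsPGroup 2 G) (h : NF 2 G)
    (hΦ : Nat.card (frattini G) ≤ 2) (c1 : Nat.card (center G) ≤ 2 * Nat.card (frattini G))
    (c2 : Nat.card G = 2 ^ 2 * Nat.card (center G)) (hZ : ∀ z ∈ center G, z ^ 2 = 1) {x : G}
    (hx : x ∉ center G) : x ^ 2 ≠ 1 := by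
  have h1 := frattini_le_center hG hΦ
  have h2 := (H3.commutator_le_frattini hG).trans h1
  have hab : (∀ y : G, y ^ 2 = 1) → False := fun H => hx (mem_center_iff.2 fun g => by
    have e : ∀ y : G, y⁻¹ = y := fun y => inv_eq_of_mul_eq_one_right (sq y ▸ H y)
    rw [← e (g * x), mul_inv_rev, e, e])
  have : (centralizer {y : G | y ^ 2 ≠ 1}).Characteristic := char_of_forall fun α y hy =>
    mem_centralizer_iff.2 fun w hw => by
      have := mem_centralizer_iff.1 hy (α⁻¹ w) fun e => hw (by
        have := congrArg α e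
        simpa using this)
      simpa using congrArg α this
  rcases h.irred hG (B := centralizer {y : G | y ^ 2 ≠ 1}) h1 c1 c2.le (center_le_centralizer _)
    with e | e
  · obtain ⟨w, hw⟩ := not_forall.1 hab
    have hwZ : w ∉ center G := fun H => hw (hZ w H)
    obtain ⟨w', hw', hww⟩ : ∃ w', w' ^ 2 ≠ 1 ∧ w' * w ≠ w * w' := by
      by_contra hc
      push Not at hc
      exact hwZ (e ▸ mem_centralizer_iff.2 hc)
    have hcard := card_mid hG (center_lt_cent hG hwZ).1 (center_lt_cent hG hwZ).2
      (by rw [card_top, c2])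
    have i1 : (center G).relIndex (centralizer {w}) = 2 := by
      have := (center G).subgroupOf (centralizer {w}) |>.index_mul_card
      rw [hcard.1, Nat.card_congr (subgroupOfEquivOfLe (center_le_centralizer _)).toEquiv] at this
      exact Nat.eq_of_mul_eq_mul_right Nat.card_pos this
    have i2 : (centralizer {w} : Subgroup G).index = 2 := by
      have := (centralizer {w} : Subgroup G).index_mul_card
      rw [← card_top (G := G), hcard.2] at this
      exact Nat.eq_of_mul_eq_mul_right Nat.card_pos this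
    have key : ∀ a b : G, a * b ∈ center G → b ^ 2 ≠ 1 → a ^ 2 ≠ 1 := fun a b H hb ha => by
      have e1 : b = a⁻¹ * (a * b) := by group
      have : Commute a⁻¹ (a * b) := mem_center_iff.1 H a⁻¹
      rw [e1, this.mul_pow, hZ _ H, inv_pow, ha] at hb
      simp at hb
    have hwC : w ∈ centralizer {w} := mem_centralizer_singleton_iff.2 rfl
    have hw'C : w' ∉ centralizer {w} := fun H => hww (mem_centralizer_singleton_iff.1 H)
    have key2 : ∀ a ∈ centralizer {w}, a ∈ center G ∨ a * w ∈ center G := fun a ha => by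
      rw [H42.mul_mem_iff_of_relIndex_two i1 ha hwC]
      tauto
    by_cases hxC : x ∈ centralizer {w}
    · exact key _ _ ((key2 x hxC).resolve_left hx) hw
    rcases key2 (x * w') ((mul_mem_iff_of_index_two i2).2 (by tauto)) with H | H
    · exact key _ _ H hw'
    · refine key x (w' * w) (mul_assoc x w' w ▸ H) ?_
      obtain ⟨c, hc, hc'⟩ : ∃ c : G, c ≠ 1 ∧ ∀ y ∈ frattini G, y ≠ 1 → y = c := by
        refine ⟨w ^ 2, hw, fun y hy hy1 => ?_⟩
        have e1 : zpowers (w ^ 2) = frattini G := eq_of_le_of_card_ge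
          (zpowers_le.2 (H3.pow_mem_frattini hG w)) (by
            rw [H50.card_zpowers_of_pow (hZ _ (h1 (H3.pow_mem_frattini hG w))) hw]; exact hΦ)
        rw [← e1, H42.mem_zpowers_of_mul_self (sq (w ^ 2) ▸ hZ _ (h1 (H3.pow_mem_frattini hG w)))]
          at hy
        exact hy.resolve_left hy1
      rw [H3.mul_pow_of_class_two h2, hc' _ (H3.pow_mem_frattini hG w) hw,
        hc' _ (H3.pow_mem_frattini hG w') hw', hc' _ (comm_mem_frattini hG w w')
          fun e => hww (commutatorElement_eq_one_iff_mul_comm.1 e).symm, ← sq,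
        ← hc' _ (H3.pow_mem_frattini hG w) hw, hZ _ (h1 (H3.pow_mem_frattini hG w))]
      simpa using hw
  · refine (hab fun y => ?_).elim
    by_contra hy
    exact hy (hZ y (mem_center_iff.2 fun g =>
      (mem_centralizer_iff.1 (e ▸ mem_top g : g ∈ centralizer {y : G | y ^ 2 ≠ 1}) y hy).symm))

end Cfsg.Agent.H62
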