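import Cfsg.Agent.H62.NoFlag2
import Cfsg.Agent.H1.UniqueSub

/-! Small `p`-groups without characteristic flags. -/

set_option autoImplicit false

namespace Cfsg.Agent.H62

open Cfsg Subgroup
open scoped commutatorElement

variable {p : ℕ}

section Comm
variable {G : Type*} [CommGroup G] [Finite G] [hp : Fact p.Prime] (hG : IsPGroup p G)
include hG

theorem range_pow_eq : (powMonoidHom p : G →* G).range = frattini G :=
  le_antisymm (by rintro _ ⟨x, rfl⟩; exact H3.pow_mem_frattini hG x)
    (H3.frattini_le_of_elementary_quotient (by rw [commutator_eq_bot]; exact bot_le)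
      fun x => ⟨x, rfl⟩)

theorem card_ker_pow :
    Nat.card (powMonoidHom p : G →* G).ker * Nat.card (frattini G) = Nat.card G := by
  rw [← range_pow_eq hG, ← index_ker, card_mul_index]

omit hG hp [Finite G] in
theorem char_ker_pow (n : ℕ) : (powMonoidHom n : G →* G).ker.Characteristic :=
  char_of_forall fun α y (hy : y ^ n = 1) => show α y ^ n = 1 by rw [← map_pow, hy, map_one]

theorem NF.homocyclic (h : NF p G) (hc : Nat.card G ≤ p ^ 2 * Nat.card (frattini G)) :
    ∃ k : ℕ, Nonempty (G ≃* Multiplicative (ZMod (p ^ k) × ZMod (p ^ k))) := by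
  classical
  have hp1 := hp.out.one_lt
  have hex : ∃ n, ∀ x : G, x ^ p ^ n = 1 := by
    obtain ⟨n, hn⟩ := hG.exists_card_eq
    exact ⟨n, fun x => hn ▸ pow_card_eq_one'⟩
  obtain ⟨e, he, hmin⟩ : ∃ n, (∀ x : G, x ^ p ^ n = 1) ∧ ∀ m < n, ¬ ∀ x : G, x ^ p ^ m = 1 :=
    ⟨_, Nat.find_spec hex, fun m hm => Nat.find_min hex hm⟩
  have hcard := le_antisymm hc (h.sq_le hG)
  have hlt : frattini G < ⊤ := lt_top_iff_ne_top.2 fun H => by
    rw [H, card_top] at hcard
    have := Nat.card_pos (α := G)
    have : 1 < p ^ 2 := Nat.one_lt_pow two_ne_zero hp1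
    nlinarith
  obtain ⟨K, -, hK1, -, hK, -⟩ := H3.exists_normal_card_eq_mul hG _ _ hlt
  have hΦ := Nat.card_pos (α := frattini G)
  obtain ⟨a, ha, ha'⟩ := SetLike.exists_of_lt (hK1.lt_of_ne fun H => by
    rw [← H] at hK; nlinarith)
  obtain ⟨b, -, hb⟩ := SetLike.exists_of_lt (lt_top_iff_ne_top.2 fun H : K = ⊤ => by
    rw [H, card_top, hcard, mul_comm, Nat.mul_right_inj hΦ.ne'] at hK; nlinarith)
  have hΩ : ∀ s < e, ∀ x : G, x ^ p ^ s = 1 → x ∈ frattini G := fun s hs x hx => by
    obtain ⟨d, rfl⟩ : ∃ d, e = d + 1 := ⟨e - 1, by omega⟩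
    have := char_ker_pow (G := G) (p ^ d)
    rcases h.irred' hG (B := (powMonoidHom (p ^ d) : G →* G).ker) hc (by
      rw [← range_pow_eq hG]
      rintro _ ⟨y, rfl⟩
      change (y ^ p) ^ p ^ d = 1
      rw [← pow_mul, ← pow_succ', he]) with H | H
    · rw [← H]
      obtain ⟨c, rfl⟩ := Nat.exists_eq_add_of_le (show s ≤ d by omega)
      change x ^ p ^ (s + c) = 1
      rw [pow_add, pow_mul, hx, one_pow]
    · exact absurd (fun y => (H ▸ mem_top y : y ∈ (powMonoidHom (p ^ d) : G →* G).ker))
        (hmin d (by omega))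
  have : NeZero (p ^ e) := ⟨(pow_pos hp.out.pos e).ne'⟩
  let f : Multiplicative (ZMod (p ^ e) × ZMod (p ^ e)) →* G :=
    ((zHom _ a (he a)).coprod (zHom _ b (he b))).comp (MulEquiv.prodMultiplicative _ _).toMonoidHom
  have hf : ∀ x, f x = a ^ x.toAdd.1.val * b ^ x.toAdd.2.val := fun x => rfl
  have key : ∀ i j : ℕ, a ^ i * b ^ j = 1 → ∀ s ≤ e, p ^ s ∣ i ∧ p ^ s ∣ j := fun i j H s => by
    induction s with
    | zero => simp
    | succ s ih =>
      intro hs
      obtain ⟨⟨i, rfl⟩, j, rfl⟩ := ih (by omega)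
      have h1 := hΩ s (by omega) (a ^ i * b ^ j) (by
        rwa [mul_pow, ← pow_mul, ← pow_mul, mul_comm i, mul_comm j])
      have h2 : p ∣ j := by
        by_contra hj
        exact hb (H3.mem_of_zpow_mem_of_not_dvd (hK1 (H3.pow_mem_frattini hG b)) (k := j)
          (by simpa using mul_mem (inv_mem (pow_mem ha i)) (hK1 h1)) (by exact_mod_cast hj))
      have h3 : p ∣ i := by
        by_contra hi
        obtain ⟨j, rfl⟩ := h2
        refine ha' (H3.mem_of_zpow_mem_of_not_dvd (H3.pow_mem_frattini hG a) (k := i) ?_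
          (by exact_mod_cast hi))
        rw [pow_mul] at h1
        simpa using mul_mem h1 (inv_mem (pow_mem (H3.pow_mem_frattini hG b) j))
      rw [pow_succ]
      exact ⟨Nat.mul_dvd_mul_left _ h3, Nat.mul_dvd_mul_left _ h2⟩
  refine ⟨e, ⟨(MulEquiv.ofBijective f ⟨(injective_iff_map_eq_one f).2 fun x hx => ?_,
    MonoidHom.range_eq_top.1 (frattini_nongenerating ?_)⟩).symm⟩⟩
  · obtain ⟨h1, h2⟩ := key _ _ (hf x ▸ hx) e le_rfl
    have h1 := Nat.eq_zero_of_dvd_of_lt h1 (ZMod.val_lt _)
    have h2 := Nat.eq_zero_of_dvd_of_lt h2 (ZMod.val_lt _)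
    rw [ZMod.val_eq_zero] at h1 h2
    exact Multiplicative.toAdd.injective (Prod.ext h1 h2)
  · have haR : a ∈ f.range := ⟨Multiplicative.ofAdd ((1 : ℕ), 0), by
      rw [hf]; simp only [toAdd_ofAdd, ZMod.val_zero, pow_zero, mul_one]
      exact (zHom_natCast _ a (he a) 1).trans (pow_one a)⟩
    have hbR : b ∈ f.range := ⟨Multiplicative.ofAdd (0, (1 : ℕ)), by
      rw [hf]; simp only [toAdd_ofAdd, ZMod.val_zero, pow_zero, one_mul]
      exact (zHom_natCast _ b (he b) 1).trans (pow_one b)⟩
    refine eq_top_of_le_card _ (hc.trans (sq_mul_card_le hG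
      (B := (f.range ⊔ frattini G) ⊓ K) ?_ ?_))
    · exact (le_inf le_sup_right hK1).lt_of_ne fun H => ha' (H ▸ ⟨mem_sup_left haR, ha⟩)
    · exact inf_le_left.lt_of_ne fun H => hb (H.symm ▸ mem_sup_left hbR :
        b ∈ (f.range ⊔ frattini G) ⊓ K).2

theorem equiv_sq_prod (hc : Nat.card G = p ^ 4) (hΦ : Nat.card (frattini G) = p) :
    Nonempty (G ≃* Multiplicative (ZMod (p ^ 2) × ZMod p × ZMod p)) := by
  have hp1 := hp.out.one_lt
  have hp0 := hp.out.pos
  set W := (powMonoidHom p : G →* G).ker with hW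
  have hWc : Nat.card W = p ^ 3 := by
    have := card_ker_pow hG
    rw [hc, hΦ, pow_succ] at this
    exact Nat.eq_of_mul_eq_mul_right hp0 this
  have h1 : frattini G ≤ W := fun x hx => by
    have := pow_card_eq_one' (x := (⟨x, hx⟩ : frattini G))
    rw [hΦ] at this
    exact congrArg Subtype.val this
  have hlt : frattini G < W := h1.lt_of_ne fun H => by
    rw [H, hWc] at hΦ
    exact absurd (Nat.pow_right_injective hp1 (hΦ.trans (pow_one p).symm)) (by norm_num)
  obtain ⟨K, -, hK1, hK2, hK, -⟩ := H3.exists_normal_card_eq_mul hG _ _ hlt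
  rw [hΦ, ← sq] at hK
  obtain ⟨b, hb, hb'⟩ := SetLike.exists_of_lt (hK1.lt_of_ne fun H => by
    rw [← H, hΦ] at hK; nlinarith)
  obtain ⟨c, hc1, hc'⟩ := SetLike.exists_of_lt (hK2.lt_of_ne fun H => by
    rw [H, hWc] at hK
    exact absurd (Nat.pow_right_injective hp1 hK) (by norm_num))
  obtain ⟨a, -, ha⟩ := SetLike.exists_of_lt (lt_top_iff_ne_top.2 fun H : W = ⊤ => by
    rw [H, card_top, hc] at hWc
    exact absurd (Nat.pow_right_injective hp1 hWc) (by norm_num))
  have ha2 : (a ^ p) ^ p = 1 := h1 (H3.pow_mem_frattini hG a)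
  have ha3 : a ^ p ^ 2 = 1 := by rw [sq, pow_mul, ha2]
  have : NeZero (p ^ 2) := ⟨(pow_pos hp0 2).ne'⟩
  let f : Multiplicative (ZMod (p ^ 2) × ZMod p × ZMod p) →* G :=
    ((zHom _ a ha3).coprod (((zHom _ b (hK2 hb)).coprod (zHom _ c hc1)).comp
      (MulEquiv.prodMultiplicative _ _).toMonoidHom)).comp
        (MulEquiv.prodMultiplicative _ _).toMonoidHom
  have hf : ∀ x, f x = a ^ x.toAdd.1.val * (b ^ x.toAdd.2.1.val * c ^ x.toAdd.2.2.val) :=
    fun x => rfl
  have haR : a ∈ f.range := ⟨Multiplicative.ofAdd ((1 : ℕ), 0, 0), by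
    rw [hf]; simp only [toAdd_ofAdd, ZMod.val_zero, pow_zero, mul_one]
    exact (zHom_natCast _ a ha3 1).trans (pow_one a)⟩
  have hbR : b ∈ f.range := ⟨Multiplicative.ofAdd (0, (1 : ℕ), 0), by
    rw [hf]; simp only [toAdd_ofAdd, ZMod.val_zero, pow_zero, mul_one, one_mul]
    exact (zHom_natCast _ b (hK2 hb) 1).trans (pow_one b)⟩
  have hcR : c ∈ f.range := ⟨Multiplicative.ofAdd (0, 0, (1 : ℕ)), by
    rw [hf]; simp only [toAdd_ofAdd, ZMod.val_zero, pow_zero, one_mul]
    exact (zHom_natCast _ c hc1 1).trans (pow_one c)⟩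
  have hΦR : frattini G ≤ f.range := by
    rw [← eq_of_le_of_card_ge (zpowers_le.2 (H3.pow_mem_frattini hG a))
      (by rw [H50.card_zpowers_of_pow ha2 ha, hΦ])]
    exact zpowers_le.2 (pow_mem haR p)
  have s1 := sq_mul_card_le hG (A := frattini G) (B := f.range ⊓ K) (C := f.range ⊓ W)
    ((le_inf hΦR hK1).lt_of_ne fun H => hb' (H ▸ ⟨hbR, hb⟩))
    ((inf_le_inf_left _ hK2).lt_of_ne fun H => hc' (H.symm ▸ ⟨hcR, hc1⟩ : c ∈ f.range ⊓ K).2)
  have s2 := H50.mul_card_le_of_lt (hG.to_subgroup f.range) (A := f.range ⊓ W)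
    (inf_le_left.lt_of_ne fun H => ha (H.symm ▸ haR : a ∈ f.range ⊓ W).2)
  have hs : Function.Surjective f := MonoidHom.range_eq_top.1 (eq_top_of_le_card _ (by
    rw [hc]
    rw [hΦ] at s1
    exact (le_of_eq (by ring)).trans ((Nat.mul_le_mul_left p s1).trans s2)))
  refine ⟨(MulEquiv.ofBijective f (hs.bijective_of_nat_card_le ?_)).symm⟩
  rw [hc, Nat.card_congr Multiplicative.toAdd, Nat.card_prod, Nat.card_prod, Nat.card_zmod,
    Nat.card_zmod]
  exact le_of_eq (by ring)

end Comm

variable {G : Type*} [Group G] [Finite G] [hp : Fact p.Prime] (hG : IsPGroup p G)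
include hG

omit hG hp [Finite G] in
/-- Commutation with a fixed element in a group of class two. -/
def commHom (h : commutator G ≤ center G) (a : G) : G →* G :=
  MonoidHom.mk' (fun g => ⁅a, g⁆) (H3.commutator_mul_right h a)

theorem card_center_of_four (hc : Nat.card G = p ^ 4) (hΦ : Nat.card (frattini G) ≤ p)
    {a b : G} (hab : a * b ≠ b * a) : Nat.card (center G) = p ^ 2 := by
  have hp0 := hp.out.pos
  have h2 := (H3.commutator_le_frattini hG).trans (frattini_le_center hG hΦ)
  have hker : ((commHom h2 a).prod (commHom h2 b)).ker = centralizer {a} ⊓ centralizer {b} := by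
    ext x
    simp only [MonoidHom.mem_ker, MonoidHom.prod_apply, Prod.mk_eq_one, mem_inf,
      mem_centralizer_singleton_iff, commHom, MonoidHom.mk'_apply,
      commutatorElement_eq_one_iff_mul_comm, eq_comm (a := x * _)]
  have c1 := card_le_ker_mul ((commHom h2 a).prod (commHom h2 b))
    (I := (frattini G).prod (frattini G))
    fun x => ⟨comm_mem_frattini hG a x, comm_mem_frattini hG b x⟩
  rw [hker, Nat.card_congr (prodEquiv _ _).toEquiv, Nat.card_prod, hc] at c1
  have haC : a ∈ centralizer {a} := mem_centralizer_singleton_iff.2 rfl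
  have haC' : a ∉ centralizer {b} := fun H => hab (mem_centralizer_singleton_iff.1 H)
  have hbC' : b ∉ centralizer {a} := fun H => hab (mem_centralizer_singleton_iff.1 H).symm
  have c2 := sq_mul_card_le hG (A := centralizer {a} ⊓ centralizer {b}) (B := centralizer {a})
    (C := ⊤) (inf_le_left.lt_of_ne fun H => haC' (H.symm ▸ haC :
      a ∈ centralizer {a} ⊓ centralizer {b}).2) (lt_top_iff_ne_top.2 fun H => hbC' (H ▸ mem_top b))
  rw [card_top, hc] at c2
  have hW : Nat.card ↥(centralizer {a} ⊓ centralizer {b} : Subgroup G) = p ^ 2 := by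
    refine Nat.eq_of_mul_eq_mul_left (pow_pos hp0 2) (le_antisymm (c2.trans (le_of_eq (by ring)))
      ((le_of_eq (by ring)).trans (c1.trans (Nat.mul_le_mul_right _ ?_))))
    rw [sq]; exact Nat.mul_le_mul hΦ hΦ
  rw [← hW]
  congr 2
  refine le_antisymm (le_inf (center_le_centralizer _) (center_le_centralizer _)) fun w hw => ?_
  have hle : centralizer {a} ⊓ centralizer {b} ≤ centralizer {w} := fun x hx =>
    mem_centralizer_singleton_iff.2 (H50.mul_comm_of_abelian
      (IsPGroup.isMulCommutative_of_card_eq_prime_sq hW) hx hw)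
  have h3 : a ∈ centralizer {w} := mem_centralizer_singleton_iff.2
    (mem_centralizer_singleton_iff.1 hw.1).symm
  have h4 : b ∈ centralizer {w} := mem_centralizer_singleton_iff.2
    (mem_centralizer_singleton_iff.1 hw.2).symm
  have c3 := sq_mul_card_le hG (A := centralizer {a} ⊓ centralizer {b})
    (B := centralizer {w} ⊓ centralizer {a}) (C := centralizer {w})
    ((le_inf hle inf_le_left).lt_of_ne fun H => haC' (H.symm ▸ ⟨h3, haC⟩ :
      a ∈ centralizer {a} ⊓ centralizer {b}).2)
    (inf_le_left.lt_of_ne fun H => hbC' (H.symm ▸ h4 : b ∈ centralizer {w} ⊓ centralizer {a}).2)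
  have e : centralizer {w} = (⊤ : Subgroup G) := eq_top_of_le_card _ (by
    rw [hW, ← pow_add] at c3; rwa [hc])
  exact mem_center_iff.2 fun g => mem_centralizer_singleton_iff.1 (e ▸ mem_top g)

theorem NF.comm_of_four (h : NF p G) (hc : Nat.card G = p ^ 4)
    (hΦ : Nat.card (frattini G) = p ^ 2) (a b : G) : a * b = b * a := by
  have hp0 := hp.out.pos
  have hp1 := hp.out.one_lt
  have hc2 : Nat.card G ≤ p ^ 2 * Nat.card (frattini G) := by rw [hc, hΦ, ← pow_add]
  have hne : ∀ {i j : ℕ}, i < j → ¬ p ^ j ≤ p ^ i := fun H H' =>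
    absurd ((Nat.pow_le_pow_iff_right hp1).1 H') (by omega)
  by_contra hab
  -- the Frattini subgroup is central
  have h1 : frattini G ≤ center G := by
    have : (centralizer (frattini G : Set G)).Characteristic := inferInstance
    rcases h.irred' hG (B := centralizer (frattini G : Set G)) hc2 (fun x hx y hy =>
      H50.mul_comm_of_abelian (IsPGroup.isMulCommutative_of_card_eq_prime_sq hΦ) hy hx) with e | e
    · exfalso
      obtain ⟨K, _, -, hK1, hK, hKc⟩ := H3.exists_normal_card_eq_mul hG ⊥ (frattini G)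
        (bot_lt_iff_ne_bot.2 fun H => by rw [H, card_bot] at hΦ; nlinarith)
      rw [card_bot, one_mul] at hK
      have hlt : K < frattini G := hK1.lt_of_ne fun H => by rw [H, hΦ] at hK; nlinarith
      obtain ⟨L, _, -, hL1, hL, hLc⟩ := H3.exists_normal_card_eq_mul hG K _ hlt
      obtain rfl : L = frattini G := eq_of_le_of_card_ge hL1 (by rw [hL, hΦ, hK, sq])
      obtain ⟨y, hy, hy'⟩ := SetLike.exists_of_lt hlt
      have hz : ∀ z ∈ K, ∀ g, Commute g z := fun z hz g =>
        (commutatorElement_eq_one_iff_commute.1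
          (mem_bot.1 (hKc (commutator_mem_commutator hz (mem_top g))))).symm
      have hm : ∀ g, ⁅y, g⁆ ∈ K := fun g => hLc (commutator_mem_commutator hy (mem_top g))
      let f : G →* G := MonoidHom.mk' (fun g => ⁅y, g⁆) fun u v =>
        H3.commutator_mul_right_of_commute (hz _ (hm v) u)
      have c1 := card_le_ker_mul f hm
      have hle : f.ker ≤ centralizer (frattini G : Set G) := fun g (hg : ⁅y, g⁆ = 1) => by
        have : frattini G ⊓ centralizer {g} = frattini G :=
          H93.eq_of_card_eq_mul_prime (H := K) (le_inf hK1 fun z hz' =>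
            mem_centralizer_singleton_iff.2 (hz z hz' g).symm.eq) inf_le_left hL fun H =>
              hy' (H ⟨hy, mem_centralizer_singleton_iff.2
                (commutatorElement_eq_one_iff_mul_comm.1 hg)⟩)
        exact fun z hz => mem_centralizer_singleton_iff.1 (this.symm ▸ hz :
          z ∈ frattini G ⊓ centralizer {g}).2
      have c2 := card_le_of_le hle
      rw [e, hΦ] at c2
      rw [hc, hK] at c1
      exact hne (show 3 < 4 by norm_num)
        (c1.trans ((Nat.mul_le_mul_left _ c2).trans (le_of_eq (by ring))))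
    · exact fun z hz => mem_center_iff.2 fun g =>
        ((e ▸ mem_top g : g ∈ centralizer (frattini G : Set G)) z hz).symm
  have h2 := (H3.commutator_le_frattini hG).trans h1
  have haZ : a ∉ center G := fun H => hab (mem_center_iff.1 H b).symm
  have hZ : center G = frattini G := (h.irred' hG hc2 h1).resolve_right fun H => haZ (H ▸ mem_top a)
  have hcard := card_mid hG (center_lt_cent hG haZ).1 (center_lt_cent hG haZ).2
    (by rwa [card_top, hZ])
  -- the derived subgroup has order at most `p`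
  have hI : commutator G ≤ (commHom h2 a).range := by
    set I := (commHom h2 a).range
    have hsw : ∀ g x : G, ⁅g, x⁆ ∈ I → ⁅x, g⁆ ∈ I := fun g x H => by
      rw [← commutatorElement_inv]; exact inv_mem H
    have s1 : ∀ g, ∀ x ∈ centralizer {a}, ⁅g, x⁆ ∈ I := fun g x hx => by
      have : I.comap (commHom h2 g) ⊓ centralizer {a} = centralizer {a} :=
        H93.eq_of_card_eq_mul_prime (H := center G) (le_inf (fun z hz => by
          change ⁅g, z⁆ ∈ I
          rw [commutatorElement_eq_one_iff_mul_comm.2 (mem_center_iff.1 hz g)]; exact one_mem _)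
            (center_le_centralizer _)) inf_le_right (hcard.1.trans (mul_comm _ _)) fun H =>
              haZ (H ⟨hsw _ _ ⟨g, rfl⟩, mem_centralizer_singleton_iff.2 rfl⟩)
      exact (this.symm ▸ hx : x ∈ I.comap (commHom h2 g) ⊓ centralizer {a}).1
    refine commutator_le.2 fun g _ x _ => ?_
    by_cases hg : g ∈ centralizer {a}
    · exact hsw _ _ (s1 x g hg)
    have : I.comap (commHom h2 g) = ⊤ :=
      H93.eq_of_card_eq_mul_prime (H := centralizer {a}) (s1 g) le_top
        (hcard.2.trans (mul_comm _ _)) fun H => hg (H (show ⁅g, g⁆ ∈ I by simp))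
    exact (this.symm ▸ mem_top x : x ∈ I.comap (commHom h2 g))
  have hD : Nat.card (commutator G) ≤ p := by
    refine (card_le_of_le hI).trans (le_of_eq ?_)
    have e : (commHom h2 a).ker = centralizer {a} := by
      ext x
      simp only [MonoidHom.mem_ker, mem_centralizer_singleton_iff, commHom, MonoidHom.mk'_apply,
        commutatorElement_eq_one_iff_mul_comm, eq_comm (a := x * _)]
    have := (commHom h2 a).ker.index_mul_card
    rw [index_ker, e, ← card_top (G := G), hcard.2] at this
    exact Nat.eq_of_mul_eq_mul_right Nat.card_pos this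
  have hD' : p ≤ Nat.card (commutator G) := H50.le_card_of_ne_bot (hG.to_subgroup _) fun H =>
    hab (commutatorElement_eq_one_iff_mul_comm.1
      (mem_bot.1 (H ▸ commutator_mem_commutator (mem_top a) (mem_top b) : _ ∈ (⊥ : Subgroup G))))
  let f : G →* Abelianization G := (powMonoidHom p).comp Abelianization.of
  have hf : ∀ x, x ∈ f.ker ↔ x ^ p ∈ commutator G := fun x => by
    rw [← Abelianization.ker_of, MonoidHom.mem_ker, MonoidHom.mem_ker, map_pow]; rfl
  have : f.ker.Characteristic := char_of_forall fun α y hy => by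
    rw [hf] at hy ⊢
    rw [← map_pow]; exact aut_mem α hy
  have hI : Nat.card ((frattini G).map Abelianization.of) = p := by
    have := (Abelianization.of.domRestrict (frattini G)).ker.index_mul_card
    rw [index_ker, MonoidHom.domRestrict_range, MonoidHom.ker_domRestrict, Abelianization.ker_of,
      Nat.card_congr (subgroupOfEquivOfLe (H3.commutator_le_frattini hG)).toEquiv,
      le_antisymm hD hD', hΦ, sq] at this
    exact Nat.eq_of_mul_eq_mul_right hp0 this
  rcases h.irred' hG (B := f.ker) hc2 (fun x hx => by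
    have := pow_card_eq_one'
      (x := (⟨_, mem_map_of_mem _ hx⟩ : (frattini G).map Abelianization.of))
    rw [hI] at this
    exact congrArg Subtype.val this) with e | e
  · have := card_le_ker_mul f (I := (frattini G).map Abelianization.of)
      fun x => ⟨x ^ p, H3.pow_mem_frattini hG x, map_pow _ _ _⟩
    rw [e, hI, hc, hΦ, ← pow_succ'] at this
    exact hne (by norm_num) this
  · have := card_le_of_le (H3.frattini_le_of_elementary_quotient le_rfl
      fun x => (hf x).1 (e ▸ mem_top x))
    rw [hΦ] at this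
    nlinarith

omit hG in
theorem quat_of_sq_ne {G : Type*} [Group G] [Finite G] (hc : Nat.card G = 2 ^ 3)
    (hab : ∃ a b : G, a * b ≠ b * a) (hZ : Nat.card (center G) = 2)
    (h : ∀ x ∉ center G, x ^ 2 ≠ 1) : Nonempty (G ≃* QuaternionGroup 2) := by
  have hm : ∀ x : G, orderOf x = 2 → zpowers x = center G := fun x hx =>
    eq_of_le_of_card_ge (zpowers_le.2 (by_contra fun H => h x H (hx ▸ pow_orderOf_eq_one x)))
      (by rw [Nat.card_zpowers, hx, hZ])
  rcases H1.cyclic_or_quaternion (IsPGroup.of_card hc) fun x y hx hy => by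
    have : x ∈ zpowers y := by rw [hm y hy, ← hm x hx]; exact mem_zpowers x
    rw [H42.mem_zpowers_of_mul_self (by rw [← sq, ← hy, pow_orderOf_eq_one])] at this
    exact this.resolve_left fun e => by simp [e] at hx with H | ⟨n, ⟨e⟩⟩
  · obtain ⟨a, b, hab⟩ := hab
    exact absurd (IsCyclic.commGroup.mul_comm a b) hab
  · have := Nat.card_congr e.toEquiv
    rw [hc, Nat.card_eq_fintype_card, QuaternionGroup.card] at this
    obtain rfl : n = 0 := by
      have h2 : 2 ^ 3 = 2 ^ (n + 3) := by rw [this]; ring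
      have := Nat.pow_right_injective le_rfl h2
      omega
    exact ⟨e⟩

end Cfsg.Agent.H62
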