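import Cfsg.Agent.H62.RankTwo2
import Cfsg.Agent.H62.MaxClAut
import Cfsg.Agent.H62.Heis
import Cfsg.Agent.H93.GenES

/-! Abelian pearls in groups of order `p ^ 3` and `p ^ 4`. -/

set_option autoImplicit false

namespace Cfsg.Agent.H62

open Cfsg Cfsg.FusionSystem Cfsg.Agent.H91 Subgroup
open scoped commutatorElement

variable {p : ℕ} {Ω : Type*} [Group Ω] {S : Subgroup Ω} {F : FusionSystem S}

theorem exp_of_card_cube [Finite S] [hp : Fact p.Prime] (hS : IsPGroup p S) (hF : F.IsSaturated p)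
    (hp2 : p ≠ 2) (h : MC S p 3) {E : Subgroup Ω} (hE : F.IsEssential p E) :
    ∀ x ∈ S, x ^ p = 1 := by
  obtain ⟨z, hz, hzc, hzp, hN⟩ := H93.exists_gen_of_card hS (LL S 1) h.card_center_LL
  have hT : H93.Tv F p S E z := ⟨stronglyClosed_top F, essential_lt hS hF hE, hE.2.1,
    inf_le_right.trans (H93.preAut_le_of_centric_radical hE.1 (radical_of_essential hS hE)),
    fun x hx y hy => by
      have := (hN _).1 (LL_comm' (i := 0) (mem_top (⟨x, hx⟩ : S)⁻¹) ⟨y, hy⟩)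
      simpa [commutatorElement_def, mul_assoc] using this, hz, hzc, hzp⟩
  obtain ⟨-, -, -, -, -, -, -, -, -, -, -, -, -, hexp⟩ := hT.split hS hF
    fun x hx => (hN _).1 (h.pow_mem_one ⟨x, hx⟩)
  exact hexp hp2

theorem card_le_of_cyc {E N : Subgroup Ω} [Finite E] {t : Ω} (hp : 0 < p) (hEN : E ≤ N) (ht : t ∈ N)
    (htp : t ^ p ∈ E) (h : ∀ g ∈ N, ∃ k : ℕ, (t ^ k)⁻¹ * g ∈ E) : Nat.card N ≤ p * Nat.card E := by
  have : Nat.card (Fin p × E) = p * Nat.card E := by simp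
  rw [← this]
  refine Nat.card_le_card_of_surjective
    (fun x : Fin p × E => (⟨t ^ (x.1 : ℕ) * x.2, mul_mem (pow_mem ht _) (hEN x.2.2)⟩ : N)) fun g => ?_
  obtain ⟨k, hk⟩ := h g g.2
  refine ⟨⟨⟨k % p, Nat.mod_lt _ hp⟩, ⟨_, mul_mem (pow_mem htp (k / p)) hk⟩⟩, Subtype.ext ?_⟩
  change t ^ (k % p) * ((t ^ p) ^ (k / p) * ((t ^ k)⁻¹ * g)) = g
  rw [← pow_mul, ← mul_assoc, ← pow_add, Nat.mod_add_div, mul_inv_cancel_left]

theorem exists_half [hp : Fact p.Prime] (hp5 : 5 ≤ p) : ∃ b, p ∣ 1 + 2 * b ∧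
    ¬ 2 * ((p - 1) * b) * ((p - 1) * b) ≡ 2 [MOD p] := by
  obtain ⟨b, hb⟩ := hp.out.odd_of_ne_two (by omega)
  refine ⟨b, by rw [add_comm, ← hb], fun h => ?_⟩
  have h1 := (ZMod.natCast_eq_natCast_iff _ _ _).2 h
  have h2 : ((2 * b + 1 : ℕ) : ZMod p) = 0 := by rw [← hb]; simp
  push_cast [Nat.cast_sub hp.out.one_le] at h1 h2
  rw [ZMod.natCast_self] at h1
  have h3 : ((3 : ℕ) : ZMod p) = 0 := by
    push_cast
    linear_combination (2 * (b : ZMod p) - 1) * h2 - 2 * h1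
  have := Nat.le_of_dvd (by omega) ((ZMod.natCast_eq_zero_iff _ _).1 h3)
  omega

theorem coe_mem_map {K : Subgroup S} {x : S} : (x : Ω) ∈ K.map S.subtype ↔ x ∈ K :=
  mem_map_iff_mem S.subtype_injective

theorem RT.exp_KK_four [Finite S] [hp : Fact p.Prime] (hS : IsPGroup p S) (hF : F.IsSaturated p)
    (hp5 : 5 ≤ p) (hm : MC S p 4) {E : Subgroup Ω} (hE : F.IsEssential p E) {u v t : Ω}
    (h : RT F p E E ⊥ u v t) (hexp : ∀ x ∈ E, x ^ p = 1) (hc : Nat.card E = p ^ 2) :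
    ∀ k ∈ KK S 1, k ^ p = 1 := by
  have hES := hE.1.1
  have := finite_of_le hES
  have hcen := centric_centralizerIn_le hE.1
  have b3 := hm.LL_eq_bot (k := 3) le_rfl
  have htp : t ^ p ∈ E := h.pow_mem_E hE.1 (radical_of_essential hS hE) hS le_rfl hexp
    (fun α _ x hx => efn_mem α hx) fun γ _ e => ⟨0, by
      rw [mulAut_ext_efn (β := 1) fun x hx => (e x hx).trans (efn_one hx).symm, one_pow]⟩
  obtain ⟨N, hN⟩ : ∃ N, N = normalizerIn S E := ⟨_, rfl⟩
  have hNS : N ≤ S := hN ▸ normalizerIn_le S E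
  have hEN : E ≤ N := hN ▸ le_normalizerIn hES
  have := finite_of_le hNS
  have hNc : Nat.card N ≤ p ^ 3 := by
    rw [pow_succ', ← hc, hN]
    exact card_le_of_cyc hp.out.pos (le_normalizerIn hES) h.tN htp h.cyc
  let U : S := ⟨u, hES h.uD⟩
  let V : S := ⟨v, hES h.vD⟩
  have hZ : ∀ z ∈ LL S 2, (z : Ω) ∈ zpowers u := fun z hz => by
    have h1 := fun g : S => congrArg Subtype.val (mem_center_iff.1 (hm.le_center hz) g)
    exact h.mem_zpowers_of_fix le_rfl hexp
      (hcen (mem_centralizerIn.2 ⟨z.2, fun x hx => h1 ⟨x, hES hx⟩⟩))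
      (mul_inv_eq_iff_eq_mul.2 (h1 ⟨t, h.tN.1⟩))
  have hZE : ∀ z ∈ LL S 2, (z : Ω) ∈ E := fun z hz => zpowers_le.2 h.uD (hZ z hz)
  have hU : U ∈ LL S 2 := by
    obtain ⟨z, hz, hz1⟩ := hm.exists_not_mem (k := 2) le_rfl
    rw [b3, mem_bot] at hz1
    obtain ⟨k, hk⟩ := hZ z hz
    exact zpowers_le.2 hz (H93.mem_zpowers_of_mem_zpowers (p := p) (u := U)
      (Subtype.ext (hexp u h.uD)) ⟨k, Subtype.ext hk⟩ hz1)
  have hLN : ∀ l ∈ LL S 1, (l : Ω) ∈ N := fun l hl => hN ▸ ⟨l.2, mem_normalizer_of_conj_mem fun x hx => by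
    have := mul_mem (hZE _ (LL_comm' hl ⟨x, hES hx⟩)) hx
    simpa [commutatorElement_def] using this⟩
  have hKL : ∀ k ∈ KK S 1, ∀ l ∈ LL S 1, l * k = k * l := fun k hk l hl =>
    hm.comm_four (LL_one_le_KK 1 hl) hk
  have hL2 : Nat.card ((LL S 1).map S.subtype) = p ^ 2 := by
    rw [card_map_of_injective S.subtype_injective, hm.card_LL le_rfl (by omega)]
  have hV : V ∉ KK S 1 := fun hv => by
    have h1 : (LL S 1).map S.subtype ≤ E := by
      rintro _ ⟨l, hl, rfl⟩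
      refine hcen (mem_centralizerIn.2 ⟨l.2, fun x hx => ?_⟩)
      obtain ⟨i, j, rfl⟩ := h.gen' hx
      exact (congrArg Subtype.val (hKL (U ^ i * V ^ j) (mul_mem (pow_mem (LL_one_le_KK 1
        (LL_anti (by omega) hU)) i) (pow_mem hv j)) l hl)).symm
    have h2 := eq_of_le_of_card_le h1 (by rw [hc, hL2])
    have h3 : S ≤ N := fun g hg => hN ▸ ⟨hg, mem_normalizer_of_conj_mem fun x hx => by
      rw [← h2] at hx ⊢
      obtain ⟨l, hl, rfl⟩ := hx
      exact ⟨_, LL_conj hl ⟨g, hg⟩, rfl⟩⟩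
    have h4 := (H91.card_le_of_le h3).trans hNc
    rw [hm.card, Nat.pow_le_pow_iff_right hp.out.one_lt] at h4
    omega
  have hK : ∀ k, 1 ≤ k → KK S 1 ≤ KK S k := fun k hk g hg => by
    rcases hk.eq_or_lt with rfl | hk
    · exact hg
    · intro y hy
      rw [commutatorElement_eq_one_iff_mul_comm.2
        (mem_center_iff.1 (hm.le_center (LL_anti hk hy)) g).symm]
      exact one_mem _
  have hNV : ∀ g : S, (g : Ω) ∈ N → ∃ i : ℕ, (V ^ i)⁻¹ * g ∈ LL S 1 := fun g hg =>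
    MC.exists_pow_of_card hS (B := N.subgroupOf S) hLN (by
      rw [Nat.card_congr (subgroupOfEquivOfLe hNS).toEquiv, hm.card_LL le_rfl (by omega),
        ← pow_succ']
      exact hNc) (hEN h.vD) (fun e => hV (LL_one_le_KK 1 e)) hg
  have hLN' : (LL S 1).map S.subtype ≤ N := by
    rintro _ ⟨l, hl, rfl⟩; exact hLN l hl
  have hinvL : ∀ α ∈ F.autGroup N, ∀ x ∈ (LL S 1).map S.subtype,
      efn α x ∈ (LL S 1).map S.subtype := fun α hα x hx => by
    by_contra hb
    have hM := (mem_autGroup_iff hNS).1 hα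
    let B : S := ⟨efn α x, hNS (efn_mem α (hLN' hx))⟩
    have hb' : B ∉ LL S 1 := fun e => hb (coe_mem_map.2 e)
    obtain ⟨i, hi⟩ := hNV B (efn_mem α (hLN' hx))
    have hi' : V ^ i ∉ KK S 1 := fun e => hV (H3.mem_of_zpow_mem_of_not_dvd (p := p) (k := i)
      (by rw [show V ^ p = 1 from Subtype.ext (hexp v h.vD)]; exact one_mem _)
      (by rwa [zpow_natCast]) fun hd => hb' (by
        obtain ⟨c, rfl⟩ := Int.natCast_dvd_natCast.1 hd
        rwa [pow_mul, show V ^ p = 1 from Subtype.ext (hexp v h.vD), one_pow, inv_one,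
          one_mul] at hi))
    have hu := hm.unif_of_not_mem hK hi'
    obtain ⟨g, hg⟩ := hm.exists_conj hu hi
    rw [b3, mem_bot, mul_inv_cancel_left, inv_mul_eq_one] at hg
    have hC : Nat.card ((centralizer ({B} : Set S)).map S.subtype) ≤ p ^ 2 := by
      rw [card_map_of_injective S.subtype_injective, ← hg]
      exact hm.card_centralizer_le (hu.conj g)
    have := finite_of_le (map_subtype_le (centralizer ({B} : Set S)))
    have hM2 := M.conj F hES (inv_mem g.2)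
    have e1 : im (efn α) ((LL S 1).map S.subtype) = (centralizer ({B} : Set S)).map S.subtype := by
      refine eq_of_le_of_card_le (im_le_iff.2 fun y hy => ?_) (by rwa [hM.card_im hLN', hL2])
      refine ⟨⟨_, hM.mem (hLN' hy)⟩, mem_centralizer_singleton_iff.2 (Subtype.ext ?_), rfl⟩
      obtain ⟨x, hx', rfl⟩ := hx
      obtain ⟨y, hy', rfl⟩ := hy
      have := congrArg (fun w : S => efn α w) (hKL _ (LL_one_le_KK 1 hx') _ hy')
      simp only [coe_mul] at this
      rwa [efn_map_mul _ (hLN _ hy') (hLN _ hx'), efn_map_mul _ (hLN _ hx') (hLN _ hy')] at this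
    have e2 : im (fun y => (g : Ω)⁻¹ * y * (g : Ω)⁻¹⁻¹) E =
        (centralizer ({B} : Set S)).map S.subtype := by
      refine eq_of_le_of_card_le (im_le_iff.2 fun y hy => ?_) (by rwa [hM2.card_im le_rfl, hc])
      refine ⟨⟨_, hM2.mem hy⟩, mem_centralizer_singleton_iff.2 (Subtype.ext ?_), rfl⟩
      rw [← hg]
      have := h.central hy (pow_mem h.vD i)
      simp only [coe_mul, coe_inv, coe_pow, inv_inv, V]
      calc _ = (g : Ω)⁻¹ * (y * v ^ i) * g := by group
        _ = _ := by rw [this]; group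
    have c1 := (hM.restrict hLN').isConj
    have c2 := hM2.isConj
    rw [e1] at c1
    rw [e2] at c2
    have c3 := centric_centralizerIn_le (centric_of_isConj hE.1 (isConj_trans c2 (isConj_symm c1)))
    obtain ⟨w, hw, hw'⟩ := hm.exists_KK (k := 1) le_rfl le_rfl
    refine hw' (coe_mem_map.1 (c3 (mem_centralizerIn.2 ⟨w.2, ?_⟩)))
    rintro _ ⟨l, hl, rfl⟩
    exact congrArg Subtype.val (hKL w hw l hl)
  have hnorm : S ≤ normalizer (N : Set Ω) := fun g hg => mem_normalizer_of_conj_mem fun x hx => by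
    have := mul_mem (hLN _ (LL_comm' (i := 0) (mem_top (⟨g, hg⟩ : S)) ⟨x, hNS hx⟩)) hx
    simpa [commutatorElement_def] using this
  have hop : S ≤ H93.preAut S N (opIn p (F.autGroup N)) := fun g hg => by
    refine H93.mem_preAut.2 ⟨⟨hg, hnorm hg⟩, H93.mem_opIn_of_chain (isPGroup_of_le hS hNS)
      (fun i => if i = 0 then ⊥ else if i = 1 then centralizerIn N N else
        if i = 2 then (LL S 1).map S.subtype else N) 3 (by simp) (by simp)
      (fun α hα i hi x hx hx' => ?_) (cjAut_mem_autGroup F hNS ⟨hg, hnorm hg⟩)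
      fun i hi x hx hx' => ?_⟩
    · split_ifs at hx' ⊢
      · rw [mem_bot.1 hx', (homOn_efn α).map_one]; exact one_mem _
      · exact efn_mem_inf_cent α hx'
      · exact hinvL α hα x hx'
      · exact efn_mem α hx
    · rw [efn_cjAut _ _ _ hx]
      have e : x⁻¹ * (g * x * g⁻¹) = ((⁅(⟨x, hNS hx⟩ : S)⁻¹, ⟨g, hg⟩⁆ : S) : Ω) := by
        simp [commutatorElement_def, mul_assoc]
      interval_cases i
      · simp only [zero_add, one_ne_zero, if_false, if_true] at hx' ⊢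
        have h1 := (mem_centralizerIn.1 hx').2
        obtain ⟨k, rfl⟩ := h.mem_zpowers_of_fix le_rfl hexp
          (hcen (mem_centralizerIn.2 ⟨hNS hx, fun y hy => h1 y (hEN hy)⟩))
          (mul_inv_eq_iff_eq_mul.2 (h1 t (hN ▸ h.tN)))
        have h2 : Commute g u := congrArg Subtype.val (mem_center_iff.1 (hm.le_center hU) ⟨g, hg⟩)
        simp only
        rw [(h2.zpow_right k).eq]; simp
      · simp only [one_add_one_eq_two, one_ne_zero, if_false, if_true, OfNat.ofNat_ne_zero,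
          OfNat.ofNat_ne_one] at hx' ⊢
        have h1 := LL_comm' (inv_mem ((coe_mem_map (x := ⟨x, hNS hx⟩)).1 hx')) ⟨g, hg⟩
        rw [e]
        exact mem_centralizerIn.2 ⟨hEN (hZE _ h1), fun y hy =>
          congrArg Subtype.val (mem_center_iff.1 (hm.le_center h1) ⟨y, hNS hy⟩)⟩
      · simp only [OfNat.ofNat_ne_zero, OfNat.ofNat_ne_one, if_false, if_true]
        rw [e]
        exact coe_mem_map.2 (LL_comm' (i := 0) (mem_top _) _)
  obtain ⟨b, hb, hb'⟩ := exists_half hp5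
  obtain ⟨τ, hτ, f, hf, ef, f1, f2, -⟩ := h.torus 2 b hb
  rw [← hN] at hf
  obtain ⟨β, hβ, eβ⟩ := hf.exists_aut (hf.im_eq_self fun x hx => by
    have := hf.map_mem_normalizer hEN hx (hN ▸ hx : x ∈ normalizerIn S E).2
    rwa [im_congr ef, im_efn, ← hN] at this)
  obtain ⟨g, hg, eg, -⟩ := H93.extend_opIn hS hF (isFullyNormalized_of_normal F hNS hnorm) hβ
  have hg' := hg.restrict (hop.trans le_sup_right)
  obtain ⟨φ, -, eφ⟩ := hg'.exists_aut (hg'.im_eq_self fun x hx => hg'.mem hx)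
  have e : ∀ x : S, (x : Ω) ∈ E → ((φ x : S) : Ω) = f x := fun x hx => by
    rw [← efn_coe, eφ _ x.2, eg _ (hEN hx), eβ _ (hEN hx)]
  intro k hk
  refine hm.aut_four (by omega) φ hU (fun e => h.u_ne (congrArg Subtype.val e)) hV
    (Subtype.ext ((e U h.uD).trans (inv_mul_eq_one.1 f1).symm)) ?_ hb' hk
  have : φ V = V ^ ((p - 1) * b) := Subtype.ext ((e V h.vD).trans (inv_mul_eq_one.1 f2).symm)
  rw [this, inv_mul_cancel]; exact one_mem _

end Cfsg.Agent.H62
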