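import Cfsg.Agent.H62.RankTwo2
import Cfsg.Agent.H4.Omega

/-! Essential subgroups with an invariant extraspecial subgroup of order `p ^ 3` on which the
outer automorphisms act faithfully, in rank two. -/

set_option autoImplicit false

namespace Cfsg.Agent.H62

open Cfsg Cfsg.FusionSystem Cfsg.Agent.H91 Subgroup
open scoped commutatorElement

variable {p : ℕ} {Ω : Type*} [Group Ω] {S : Subgroup Ω} {F : FusionSystem S}

theorem comm_mul_cent {D : Subgroup Ω} {x y a b : Ω} (hx : x ∈ D) (hy : y ∈ D)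
    (ha : a ∈ centralizerIn D D) (hb : b ∈ centralizerIn D D) : ⁅x * a, y * b⁆ = ⁅x, y⁆ := by
  have h1 : a * (y * b) * a⁻¹ = y * b := by
    rw [← (mem_centralizerIn.1 ha).2 _ (mul_mem hy hb.1), mul_inv_cancel_right]
  have h2 : b * x⁻¹ * b⁻¹ = x⁻¹ := by
    rw [← (mem_centralizerIn.1 hb).2 _ (inv_mem hx), mul_inv_cancel_right]
  calc _ = x * (a * (y * b) * a⁻¹) * x⁻¹ * (y * b)⁻¹ := by simp only [commutatorElement_def]; group
    _ = x * y * (b * x⁻¹ * b⁻¹) * y⁻¹ := by rw [h1]; group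
    _ = _ := by rw [h2]; rfl

theorem pow_mul_mem_norm {E : Subgroup Ω} {e t : Ω} (he : e ∈ E) (ht : t ∈ normalizer (E : Set Ω))
    (n : ℕ) : ((e * t) ^ n)⁻¹ * t ^ n ∈ E := by
  induction n with
  | zero => simp
  | succ n ih =>
    have h1 : ((e * t) ^ (n + 1))⁻¹ * t ^ (n + 1) =
        t⁻¹ * (e⁻¹ * (((e * t) ^ n)⁻¹ * t ^ n)) * t := by
      rw [pow_succ (e * t), pow_succ t]; group
    rw [h1]
    exact conj_inv_mem_of_mem_normalizer ht (mul_mem (inv_mem he) ih)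

theorem mem_of_pow_coprime {E : Subgroup Ω} {t : Ω} {a b : ℕ} (h : a.Coprime b) (ha : t ^ a ∈ E)
    (hb : t ^ b ∈ E) : t ∈ E := by
  have := Nat.gcd_eq_gcd_ab a b
  rw [h, Nat.cast_one] at this
  rw [← zpow_one t, this, zpow_add, zpow_mul, zpow_mul, zpow_natCast, zpow_natCast]
  exact mul_mem (zpow_mem ha _) (zpow_mem hb _)

theorem RT.false_of_ext [Finite S] [hp : Fact p.Prime] (hS : IsPGroup p S) (hp5 : 5 ≤ p)
    (hrk : ∀ A : Subgroup Ω, A ≤ S → IsElementaryAbelian p A → Nat.card A ≤ p ^ 2)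
    {E D : Subgroup Ω} (hE : F.IsEssential p E) (hD : D ≤ E) {u v t : Ω}
    (h : RT F p E D (centralizerIn D D) u v t) (hexp : ∀ x ∈ D, x ^ p = 1)
    (hinv : ∀ α ∈ F.autGroup E, ∀ x ∈ D, efn α x ∈ D)
    (hk : ∀ γ ∈ F.autGroup E, (∀ x ∈ D, efn γ x = x) → ∃ k, γ ^ p ^ k = 1)
    (hcomm : ∀ x ∈ D, ∀ y ∈ D, ⁅x, y⁆ ∈ centralizerIn D D)
    (hZ : Nat.card (centralizerIn D D) = p) : False := by
  have hES := hE.1.1
  have := finite_of_le hES
  have := finite_of_le hD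
  have := finite_normalizerIn (S := S) E
  obtain ⟨Z, hZd⟩ : ∃ Z, Z = centralizerIn D D := ⟨_, rfl⟩
  have cz : ∀ {x y a b : Ω}, x ∈ D → y ∈ D → a ∈ Z → b ∈ Z → ⁅x * a, y * b⁆ = ⁅x, y⁆ :=
    fun hx hy ha hb => comm_mul_cent hx hy (hZd ▸ ha) (hZd ▸ hb)
  have hZc : ∀ a ∈ Z, ∀ x ∈ D, Commute x a := fun a ha x hx =>
    (mem_centralizerIn.1 (hZd ▸ ha)).2 x hx
  have hZD : Z ≤ D := hZd ▸ centralizerIn_le D D
  have hZin : ∀ x ∈ D, (∀ y ∈ D, y * x = x * y) → x ∈ Z := fun x hx e =>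
    hZd ▸ mem_centralizerIn.2 ⟨hx, e⟩
  rw [← hZd] at h hcomm hZ
  have := finite_of_le hZD
  have hu := h.uD
  have hv := h.vD
  have hz := hcomm u hu v hv
  obtain ⟨z, hzd⟩ : ∃ z, z = ⁅u, v⁆ := ⟨_, rfl⟩
  have cuv : ∀ i j : ℕ, ⁅u ^ i, v ^ j⁆ = z ^ (i * j) := fun i j => by
    have e1 : ⁅u ^ i, v⁆ = z ^ i := by
      rw [H3.commutator_pow_left_of_commute (hZc _ hz u hu), hzd]
    rw [H3.commutator_pow_right_of_commute (e1 ▸ hZc _ (hzd ▸ pow_mem hz i) v hv), e1, pow_mul]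
  rw [← hzd] at hz
  have dec : ∀ d ∈ D, ∃ i j : ℕ, ∃ a ∈ Z, d = u ^ i * v ^ j * a := fun d hd => by
    obtain ⟨i, j, e⟩ := h.gen d hd
    exact ⟨i, j, _, e, by group⟩
  have centD : ∀ {g : Ω}, Commute g u → Commute g v → (∀ a ∈ Z, Commute g a) →
      ∀ d ∈ D, Commute g d := fun h1 h2 h3 d hd => by
    obtain ⟨i, j, a, ha, rfl⟩ := dec d hd
    exact ((h1.pow_right i).mul_right (h2.pow_right j)).mul_right (h3 a ha)
  have hz1 : z ≠ 1 := fun e => h.u0 (hZin u hu fun y hy => (centD (Commute.refl u)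
    (commutatorElement_eq_one_iff_commute.1 (hzd ▸ e)) (fun a ha => hZc a ha u hu) y hy).symm.eq)
  have hZz : Z = zpowers z := (eq_of_le_of_card_le (zpowers_le.2 hz) (by
    rw [hZ, H50.card_zpowers_of_pow (hexp z (hZD hz)) hz1])).symm
  have natZ : ∀ a ∈ Z, ∃ i : ℕ, a = z ^ i := fun a ha => by
    have : IsOfFinOrder z := isOfFinOrder_iff_pow_eq_one.2 ⟨p, hp.out.pos, hexp z (hZD hz)⟩
    obtain ⟨i, hi⟩ := this.mem_powers_iff_mem_zpowers.2 (hZz ▸ ha)
    exact ⟨i, hi.symm⟩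
  have cjz : ∀ {g : Ω}, u⁻¹ * (g * u * g⁻¹) ∈ Z → ∀ {k : ℕ}, (v * u ^ k)⁻¹ * (g * v * g⁻¹) ∈ Z →
      ∀ a ∈ Z, Commute g a := fun {g} h1 {k} h2 a ha => by
    obtain ⟨i, rfl⟩ := natZ a ha
    refine Commute.pow_right (mul_inv_eq_iff_eq_mul.1 ?_) i
    have := cz hu (mul_mem hv (pow_mem hu k)) h1 h2
    rw [mul_inv_cancel_left, mul_inv_cancel_left] at this
    rw [hzd, conjugate_commutatorElement, this]
    have e := (Commute.self_pow u k).inv_left.eq
    calc _ = u * v * (u ^ k * u⁻¹) * (u ^ k)⁻¹ * v⁻¹ := by simp only [commutatorElement_def]; group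
      _ = _ := by rw [← e]; simp only [commutatorElement_def]; group
  have eZ : ∀ e ∈ E, ∀ a ∈ Z, Commute e a := fun e he =>
    cjz (h.inn e he u hu) (k := 0) (by simpa using h.inn e he v hv)
  have tZ : ∀ a ∈ Z, Commute t a := cjz h.tu (k := 1) (by simpa using h.tv)
  have adjU : ∀ {g : Ω}, u⁻¹ * (g * u * g⁻¹) ∈ Z → ∃ i : ℕ, Commute (v ^ i * g) u := fun {g} h1 => by
    obtain ⟨i, hi⟩ := natZ _ h1
    refine ⟨i, mul_inv_eq_iff_eq_mul.1 ?_⟩
    have e1 := cuv 1 i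
    rw [pow_one, one_mul, ← hi] at e1
    obtain ⟨a, ha⟩ : ∃ a, a = u⁻¹ * (g * u * g⁻¹) := ⟨_, rfl⟩
    rw [← ha] at h1 e1
    have e2 := (hZc _ h1 _ (pow_mem hv i)).inv_left.eq
    have e3 := (hZc _ h1 _ hu).eq
    have e5 : v ^ i * u * (v ^ i)⁻¹ = a⁻¹ * u := by
      rw [← e1]; simp only [commutatorElement_def]; group
    calc _ = v ^ i * u * (a * (v ^ i)⁻¹) := by rw [ha]; group
      _ = a⁻¹ * (u * a) := by rw [← e2, ← mul_assoc, e5, mul_assoc]
      _ = _ := by rw [e3, inv_mul_cancel_left]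
  obtain ⟨C, hCd⟩ : ∃ C, C = centralizerIn E D := ⟨_, rfl⟩
  have hCE : C ≤ E := hCd ▸ centralizerIn_le E D
  have := finite_of_le hCE
  have memC : ∀ {c : Ω}, c ∈ C ↔ c ∈ E ∧ ∀ x ∈ D, x * c = c * x := hCd ▸ mem_centralizerIn
  have decU : ∀ e ∈ E, Commute e u → ∃ i : ℕ, ∃ c ∈ C, e = u ^ i * c := fun e he h1 => by
    obtain ⟨i, hi⟩ := natZ _ (h.inn e he v hv)
    refine ⟨i, (u ^ i)⁻¹ * e, memC.2 ⟨mul_mem (inv_mem (pow_mem (hD hu) i)) he, fun x hx =>
      (centD ((Commute.pow_self u i).inv_left.mul_left h1) ?_ (fun a ha =>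
        ((hZc a ha u hu).pow_left i).inv_left.mul_left (eZ e he a ha)) x hx).symm.eq⟩, by group⟩
    have e1 := cuv i 1
    rw [pow_one, mul_one, ← hi] at e1
    have e2 := (hZc _ (h.inn e he v hv) v hv).eq
    rw [mul_inv_cancel_left, ← e1] at e2
    refine mul_inv_eq_iff_eq_mul.1 ?_
    calc _ = (u ^ i)⁻¹ * (e * v * e⁻¹) * u ^ i := by group
      _ = _ := by rw [e2]; simp only [commutatorElement_def]; group
  have decE : ∀ e ∈ E, ∃ d ∈ D, ∃ c ∈ C, e = d * c := fun e he => by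
    obtain ⟨i, hi⟩ := adjU (h.inn e he u hu)
    obtain ⟨j, c, hc, e1⟩ := decU _ (mul_mem (pow_mem (hD hv) i) he) hi
    exact ⟨(v ^ i)⁻¹ * u ^ j, mul_mem (inv_mem (pow_mem hv i)) (pow_mem hu j), c, hc, by
      rw [mul_assoc, ← e1]; group⟩
  obtain ⟨U, hUd⟩ : ∃ U, U = Z ⊔ zpowers u := ⟨_, rfl⟩
  have hUD : U ≤ D := hUd ▸ sup_le hZD (zpowers_le.2 hu)
  have huU : u ∈ U := hUd ▸ mem_sup_right (mem_zpowers u)
  have hZU : Z ≤ U := hUd ▸ le_sup_left
  have centU : ∀ {g : Ω}, Commute g u → (∀ a ∈ Z, Commute g a) → ∀ y ∈ U, y * g = g * y :=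
    fun {g} h1 h2 y hy => mem_centralizer_singleton_iff.1
      ((hUd ▸ sup_le (fun a ha => mem_centralizer_singleton_iff.2 (h2 a ha).symm.eq)
        (zpowers_le.2 (mem_centralizer_singleton_iff.2 h1.symm.eq)) :
          U ≤ centralizer {g}) hy)
  have hUe : IsElementaryAbelian p U := ⟨H50.abelian_of_forall fun x hx y hy =>
    centU (g := y) (centU (Commute.refl u) (fun a ha => hZc a ha u hu) y hy)
      (fun a ha => hZc a ha y (hUD hy)) x hx, fun x hx => hexp x (hUD hx)⟩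
  have hUc : Nat.card U = p ^ 2 := by
    refine le_antisymm (hrk U (hUD.trans (hD.trans hES)) hUe) ?_
    have := finite_of_le hUD
    have h1 : Z < U := lt_of_le_of_ne hZU fun e => h.u0 (e ▸ huU)
    obtain ⟨m, hm⟩ := (isPGroup_of_le hS (hUD.trans (hD.trans hES))).exists_card_eq
    have h2 := H91.card_lt_of_lt h1
    rw [hZ, hm] at h2
    rw [hm]
    refine Nat.pow_le_pow_right hp.out.pos ?_
    by_contra hc
    interval_cases m
    · rw [pow_zero] at h2; omega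
    · rw [pow_one] at h2; omega
  have inU : ∀ x ∈ S, x ^ p = 1 → Commute x u → (∀ a ∈ Z, Commute x a) → x ∈ U :=
    fun x hx h1 h2 h3 => mem_of_rank hrk (hUD.trans (hD.trans hES)) hUe hUc hx h1 (centU h2 h3)
  have hCcyc : IsCyclic C := by
    by_contra hc
    obtain ⟨A, -, -, hA, hAc⟩ := H4.exists_normal_rank_two (p := p) (by omega) C
      (isPGroup_of_le hS (hCE.trans hES)) ⊤ inferInstance fun e =>
        hc (isCyclic_of_surjective topEquiv topEquiv.surjective)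
    have h1 : A.map C.subtype ≤ Z := by
      rintro _ ⟨c, hc, rfl⟩
      have h2 := (memC.1 c.2).2
      exact hZin _ (hUD (inU _ (hES (hCE c.2)) (congrArg Subtype.val (hA.2 c hc)) (h2 u hu).symm
        fun a ha => (h2 a (hZD ha)).symm)) h2
    have h2 := H91.card_le_of_le h1
    rw [card_map_of_injective C.subtype_injective, hAc, hZ] at h2
    nlinarith
  obtain ⟨c₀, hc₀⟩ := hCcyc.exists_generator
  have genC : ∀ c ∈ C, ∃ k : ℤ, c = c₀ ^ k := fun c hc => by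
    obtain ⟨k, hk⟩ := hc₀ ⟨c, hc⟩
    exact ⟨k, (congrArg Subtype.val hk).symm⟩
  have cC : ∀ a ∈ C, ∀ b ∈ C, Commute a b := fun a ha b hb => by
    obtain ⟨i, rfl⟩ := genC a ha
    obtain ⟨j, rfl⟩ := genC b hb
    exact Commute.zpow_zpow_self _ i j
  have eC : ∀ e ∈ E, ∀ c ∈ C, Commute e c := fun e he c hc => by
    obtain ⟨d, hd, c', hc', rfl⟩ := decE e he
    exact Commute.mul_left ((memC.1 hc).2 d hd) (cC _ hc' _ hc)
  have invC : ∀ α ∈ F.autGroup E, ∀ c ∈ E, c ∈ C → efn α c ∈ C := fun α hα c hc hc' =>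
    memC.2 ⟨efn_mem α hc, fun x hx => by
      have h1 := hinv _ (inv_mem hα) x hx
      rw [← efn_efn_inv α (hD hx), ← efn_map_mul _ (hD h1) hc, (memC.1 hc').2 _ h1,
        efn_map_mul _ hc (hD h1)]⟩
  obtain ⟨b, hb⟩ := hp.out.odd_of_ne_two (by omega)
  obtain ⟨τ, hτ, f, hf, ef, f1, f2, f3, hτN⟩ := h.torus 2 b (by rw [add_comm, ← hb])
  have hEN := le_normalizerIn hES
  have tC0 : ∀ c ∈ C, t * c * t⁻¹ ∈ C := fun c hc => by
    have := invC _ (cjAut_mem_autGroup F hES h.tN) c (hCE hc) hc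
    rwa [efn_cjAut _ _ _ (hCE hc)] at this
  have fC0 : ∀ c ∈ C, f c ∈ C := fun c hc => ef c (hCE hc) ▸ invC τ hτ c (hCE hc) hc
  have tC : ∀ c ∈ C, Commute t c := by
    obtain ⟨i, hi⟩ := genC _ (fC0 _ c₀.2)
    obtain ⟨j, hj⟩ := genC _ (tC0 _ c₀.2)
    have h1 : Commute (t ^ 3) (f c₀) := by
      have e1 : f (t * c₀ * t⁻¹) = t * f c₀ * t⁻¹ := by
        rw [hj, hf.homOn.map_zpow (hEN (hCE c₀.2)), hi, ← conj_zpow, hj, ← zpow_mul, ← zpow_mul,
          mul_comm]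
      rw [hf.map_conj h.tN (hEN (hCE c₀.2))] at e1
      have e2 := (eC _ f3 _ (fC0 _ c₀.2)).eq
      refine mul_inv_eq_iff_eq_mul.1 ?_
      calc _ = t⁻¹ * (t ^ 2 ^ 2 * (f c₀ * ((t ^ 2 ^ 2)⁻¹ * f t)) * (f t)⁻¹) * t := by
            norm_num; group
        _ = _ := by rw [← e2, ← mul_assoc (t ^ 2 ^ 2), mul_inv_cancel_left, e1]; group
    have h2 : ∀ c ∈ C, Commute (t ^ 3) c := fun c hc => by
      obtain ⟨y, hy, rfl⟩ := (hf.mem_im (hCE.trans hEN)).1
        (((hf.restrict (hCE.trans hEN)).im_eq_self fC0).ge hc)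
      obtain ⟨k, rfl⟩ := genC y hy
      rw [hf.homOn.map_zpow (hEN (hCE c₀.2))]
      exact h1.zpow_right k
    obtain ⟨k, hk⟩ := pow_eq_one_of_mem_isPGroup hS h.tN.1
    intro c hc
    exact mem_centralizer_singleton_iff.1 (mem_of_pow_coprime (E := centralizer {c})
      (((Nat.coprime_primes Nat.prime_three hp.out).2 (by omega)).pow_right k)
      (mem_centralizer_singleton_iff.2 (h2 c hc).eq) (by rw [hk]; exact one_mem _))
  have fC : ∀ c ∈ C, f c = c := fun c hc => by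
    rw [ef c (hCE hc)]
    exact (H93.mem_fixAut.1 (hτN (H93.fixAut (F.autGroup E) C) (H93.conj_mem_fixAut invC)
      (H93.mem_fixAut.2 ⟨cjAut_mem_autGroup F hES h.tN, fun x hx hx' => by
        rw [efn_cjAut _ _ _ hx, (tC x hx').eq, mul_inv_cancel_right]⟩))).2 c (hCE hc) hc
  have hZC : Z ≤ C := fun a ha => memC.2 ⟨hD (hZD ha), fun x hx => hZc a ha x hx⟩
  have htp : t ^ p ∈ E := by
    have htp := pow_mem h.tN p
    refine mem_of_cjAut_mem_opIn hE.1 (radical_of_essential hS hE) htp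
      (H93.mem_opIn_of_chain' (isPGroup_of_le hS hES) (fun i => if i = 0 then ⊥ else D) 1 (by simp)
      (fun α hα i _ x hx hx' => ?_) (fun γ hγ e => hk γ hγ fun x hx => e x (hD hx) (by simpa using hx))
      (cjAut_mem_autGroup F hES htp) fun i hi x hx hx' => ?_)
    · split_ifs at hx' ⊢
      · rw [mem_bot.1 hx', (homOn_efn α).map_one]; exact one_mem _
      · exact hinv α hα x hx'
    · obtain rfl : i = 0 := by omega
      simp only [zero_add, one_ne_zero, if_false, if_true] at hx' ⊢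
      rw [efn_cjAut _ _ _ hx, mem_bot, inv_mul_eq_one]
      obtain ⟨a, ha, ea⟩ : ∃ a ∈ Z, t * u * t⁻¹ = u * a := ⟨_, h.tu, by group⟩
      obtain ⟨a', ha', ea'⟩ : ∃ a ∈ Z, t * v * t⁻¹ = v * u * a := ⟨_, h.tv, by group⟩
      have cj : ∀ (k : ℕ) (x : Ω), t ^ (k + 1) * x * (t ^ (k + 1))⁻¹ =
          t * (t ^ k * x * (t ^ k)⁻¹) * t⁻¹ := fun k x => by rw [pow_succ']; group
      have cm : ∀ x y : Ω, t * (x * y) * t⁻¹ = (t * x * t⁻¹) * (t * y * t⁻¹) := fun x y => by group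
      have ct : ∀ x ∈ Z, t * x * t⁻¹ = x := fun x hx => by rw [(tZ x hx).eq, mul_inv_cancel_right]
      have e1 : ∀ k : ℕ, t ^ k * u * (t ^ k)⁻¹ = u * a ^ k := fun k => by
        induction k with
        | zero => simp
        | succ k ih => rw [cj, ih, cm, ea, ct _ (pow_mem ha k), pow_succ', mul_assoc]
      have e2 : ∀ k : ℕ, t ^ k * v * (t ^ k)⁻¹ = v * u ^ k * (a' ^ k * a ^ k.choose 2) := fun k => by
        induction k with
        | zero => simp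
        | succ k ih =>
          rw [cj, ih, cm, cm, ea', ← conj_pow, ea, ct _ (mul_mem (pow_mem ha' k) (pow_mem ha _)),
            (hZc a ha u hu).mul_pow, Nat.choose_succ_succ', Nat.choose_one_right, pow_add a,
            pow_succ' u, pow_succ' a']
          have c1 := (hZc a' ha' _ (pow_mem hu k)).eq
          have c2 := (hZc _ (pow_mem ha' k) _ (pow_mem (hZD ha) k)).eq
          calc _ = v * u * (a' * u ^ k) * (a ^ k * a' ^ k) * a ^ k.choose 2 := by group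
            _ = _ := by rw [← c1, c2]; group
      obtain ⟨c, hc⟩ := hp.out.dvd_choose_self (k := 2) (by omega) (by omega)
      refine (mul_inv_eq_iff_eq_mul.2 (centD (mul_inv_eq_iff_eq_mul.1 ?_) (mul_inv_eq_iff_eq_mul.1 ?_)
        (fun a ha => (tZ a ha).pow_left p) x hx').eq).symm
      · rw [e1, hexp a (hZD ha), mul_one]
      · rw [e2, hc, pow_mul, hexp a (hZD ha), hexp a' (hZD ha'), hexp u hu]; simp
  obtain ⟨i, hi⟩ := adjU h.tu
  obtain ⟨s, hs⟩ : ∃ s, s = v ^ i * t := ⟨_, rfl⟩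
  rw [← hs] at hi
  have hvi := pow_mem (hD hv) i
  have sN : s ∈ normalizerIn S E := hs ▸ mul_mem (hEN hvi) h.tN
  have sE : ∀ k : ℕ, (s ^ k)⁻¹ * t ^ k ∈ E := fun k => hs ▸ pow_mul_mem_norm hvi h.tN.2 k
  have sC : ∀ c ∈ C, Commute s c := fun c hc => hs ▸ (eC _ hvi c hc).mul_left (tC c hc)
  obtain ⟨M', hM⟩ : ∃ M', M' = centralizerIn (normalizerIn S E) U := ⟨_, rfl⟩
  have hMN : M' ≤ normalizerIn S E := hM ▸ centralizerIn_le _ _
  have memM : ∀ {g : Ω}, g ∈ M' ↔ g ∈ normalizerIn S E ∧ ∀ x ∈ U, x * g = g * x :=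
    hM ▸ mem_centralizerIn
  have sM : s ∈ M' := memM.2 ⟨sN, centU hi fun a ha => sC a (hZC ha)⟩
  have decM : ∀ g ∈ M', ∃ k i : ℕ, ∃ c ∈ C, g = s ^ k * (u ^ i * c) := fun g hg => by
    obtain ⟨k, hk⟩ := h.cyc g (hMN hg)
    have h1 : (s ^ k)⁻¹ * g ∈ E := by simpa [mul_assoc] using mul_mem (sE k) hk
    obtain ⟨i, c, hc, e⟩ := decU _ h1
      ((memM.1 (mul_mem (inv_mem (pow_mem sM k)) hg)).2 u huU).symm
    exact ⟨k, i, c, hc, by rw [← e]; group⟩
  have abM : ∀ a ∈ M', ∀ b ∈ M', a * b = b * a := fun a ha b hb => by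
    have key : ∀ y ∈ M', Commute y s → (∀ c ∈ C, Commute y c) → Commute y b := fun y hy h1 h2 => by
      obtain ⟨k, i, c, hc, rfl⟩ := decM b hb
      exact (h1.pow_right k).mul_right ((Commute.pow_right ((memM.1 hy).2 u huU).symm i).mul_right
        (h2 c hc))
    have key2 : ∀ y ∈ M', Commute y s ∧ ∀ c ∈ C, Commute y c := fun y hy => by
      obtain ⟨k, i, c, hc, rfl⟩ := decM y hy
      exact ⟨(Commute.pow_self s k).mul_left ((hi.symm.pow_left i).mul_left (sC c hc).symm),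
        fun c' hc' => ((sC c' hc').pow_left k).mul_left
          ((eC _ (pow_mem (hD hu) i) c' hc').mul_left (cC c hc c' hc'))⟩
    exact key a ha (key2 a ha).1 (key2 a ha).2
  have fN : ∀ g ∈ normalizerIn S E, f g ∈ normalizerIn S E := fun g hg => by
    have := hf.map_mem_normalizer hEN hg hg.2
    rwa [im_congr ef, im_efn] at this
  obtain ⟨a, ha, ea⟩ : ∃ a ∈ Z, f u = u ^ 2 * a := ⟨_, f1, by group⟩
  have hUN := hUD.trans (hD.trans hEN)
  have fU : im f U = U := by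
    refine (hf.restrict hUN).im_eq_self fun x hx => ?_
    have h1 : im f (Z ⊔ zpowers u) ≤ U := by
      rw [(hf.homOn.mono (hUd ▸ hUN)).im_sup]
      refine sup_le (im_le_iff.2 fun y hy => by rw [fC y (hZC hy)]; exact hZU hy)
        (im_le_iff.2 ?_)
      rintro _ ⟨k, rfl⟩
      rw [hf.homOn.map_zpow (hUN huU), ea]
      exact zpow_mem (mul_mem (pow_mem huU 2) (hZU ha)) k
    exact h1 (mem_im_of_mem f (hUd ▸ hx))
  have fM : ∀ g ∈ M', f g ∈ M' := fun g hg => memM.2 ⟨fN g (hMN hg), by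
    have := hf.map_mem_centralizer hUN (hMN hg) (memM.1 hg).2
    rw [fU] at this
    exact (mem_centralizerIn.1 this).2⟩
  have hUM : U ≤ M' := fun x hx => memM.2 ⟨hUN hx, fun y hy => H50.mul_comm_of_abelian hUe.1 hy hx⟩
  have hCM : C ≤ M' := fun c hc => memM.2 ⟨hEN (hCE hc), fun y hy => (memC.1 hc).2 y (hUD hy)⟩
  letI : CommGroup M' := { (inferInstance : Group M') with
    mul_comm := fun a b => Subtype.ext (abM _ a.2 _ b.2) }
  let φ : M' →* M' := (hf.homOn.mono hMN).toHom.codRestrict M' fun x => fM x x.2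
  have φv : ∀ x : M', (φ x : Ω) = f x := fun x => rfl
  let s' : M' := ⟨s, sM⟩
  let u' : M' := ⟨u, hUM huU⟩
  let a' : M' := ⟨a, hUM (hZU ha)⟩
  have q1 : φ u' = u' ^ 2 * a' := Subtype.ext ea
  have q2 : φ a' = a' := Subtype.ext (fC a (hZC ha))
  obtain ⟨j, c, hc, ej⟩ := decU (s ^ p) (by simpa using mul_mem htp (inv_mem (sE p))) (hi.pow_left p)
  let c' : M' := ⟨c, hCM hc⟩
  have q3 : φ c' = c' := Subtype.ext (fC c hc)
  have q4 : s' ^ p = u' ^ j * c' := Subtype.ext ej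
  have q5 : ((s' ^ 4)⁻¹ * φ s' : M').1 ∈ E := by
    change (s ^ 4)⁻¹ * f s ∈ E
    have e1 : f s = f (v ^ i) * f t := by rw [hs, hf.map_mul (hEN hvi) h.tN]
    have e2 := conj_inv_mem_of_mem_normalizer (pow_mem h.tN 4).2 (ef _ hvi ▸ efn_mem τ hvi)
    have := mul_mem (mul_mem (sE 4) e2) f3
    rw [e1]
    simpa [mul_assoc] using this
  obtain ⟨e₁, he₁⟩ : ∃ e₁, e₁ = (s' ^ 4)⁻¹ * φ s' := ⟨_, rfl⟩
  rw [← he₁] at q5
  have q6 : φ s' = s' ^ 4 * e₁ := by rw [he₁]; group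
  have q7 : ((s'⁻¹ * φ s') ^ 2)⁻¹ * φ (s'⁻¹ * φ s') = s' ^ 6 * (e₁ * φ e₁) := by
    rw [q6]
    simp only [map_mul, map_inv, map_pow, q6]
    apply Additive.ofMul.injective
    simp only [ofMul_mul, ofMul_inv, ofMul_pow]
    module
  have q8 : (((s'⁻¹ * φ s') ^ 2)⁻¹ * φ (s'⁻¹ * φ s')) ^ p = 1 := by
    have r1 : (s'⁻¹ * φ s') ^ p = (u' * a') ^ j := by
      rw [mul_pow, inv_pow, ← map_pow, q4, map_mul, map_pow, q1, q3]
      apply Additive.ofMul.injective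
      simp only [ofMul_mul, ofMul_inv, ofMul_pow]
      module
    rw [mul_pow, inv_pow, ← pow_mul, mul_comm 2, pow_mul, ← map_pow, r1, map_pow, map_mul, q1, q2]
    apply Additive.ofMul.injective
    simp only [ofMul_mul, ofMul_inv, ofMul_pow, ofMul_one]
    module
  rw [q7] at q8
  obtain ⟨w, hw⟩ : ∃ w, w = s' ^ 6 * (e₁ * φ e₁) := ⟨_, rfl⟩
  rw [← hw] at q8
  have q9 : (w : Ω) ∈ E := hD (hUD (inU _ (hMN w.2).1 (congrArg Subtype.val q8)
    ((memM.1 w.2).2 u huU).symm fun a ha => ((memM.1 w.2).2 a (hZU ha)).symm))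
  have q10 : s ^ 6 ∈ E := by
    have e1 : s' ^ 6 = w * (e₁ * φ e₁)⁻¹ := by rw [hw]; group
    have e2 : ((φ e₁ : M') : Ω) ∈ E := by rw [φv, ef _ q5]; exact efn_mem τ q5
    change ((s' ^ 6 : M') : Ω) ∈ E
    rw [e1]
    exact mul_mem q9 (inv_mem (mul_mem q5 e2))
  have q11 : s ∈ E := mem_of_pow_coprime (a := 6) (b := p) (Nat.Coprime.mul_left (m := 2) (n := 3)
    ((Nat.coprime_primes Nat.prime_two hp.out).2 (by omega))
    ((Nat.coprime_primes Nat.prime_three hp.out).2 (by omega))) q10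
    (by simpa using mul_mem htp (inv_mem (sE p)))
  exact h.tE (by simpa [hs] using mul_mem (inv_mem hvi) q11)

end Cfsg.Agent.H62
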