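import Cfsg.Agent.H91.Normal
import Cfsg.Agent.H93.NormCrit
import Cfsg.Agent.H93.HypFactor
import Cfsg.Agent.S1949

/-! Small-exponent subgroups of the hyperfocal subgroup detect `p'`-automorphisms. -/

namespace Cfsg.Agent.H62

open Cfsg Cfsg.FusionSystem Cfsg.Agent.H91
open scoped commutatorElement

variable {Ω : Type*} [Group Ω] {S : Subgroup Ω} {F : FusionSystem S} {p : ℕ}

/-- small elements: order dividing `p`, or dividing `4` when `p = 2` -/
def Sm (p : ℕ) (x : Ω) : Prop := x ^ p = 1 ∨ (p = 2 ∧ x ^ 4 = 1)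

theorem exists_smallD [Finite S] [Fact p.Prime] (hS : IsPGroup p S) (F : FusionSystem S)
    {R : Subgroup Ω} (hR : R ≤ S) :
    ∃ D : Subgroup Ω, D ≤ R ∧ D ≤ F.hyperfocalSubgroup p ∧
      (∀ α ∈ F.autGroup R, ∀ x ∈ D, efn α x ∈ D) ∧ (∀ d ∈ D, Sm p d) ∧
      (∀ d ∈ D, ∀ x ∈ R, ⁅d, x⁆ ∈ D ⊓ Subgroup.centralizer (D : Set Ω)) ∧
      ∀ γ ∈ F.autGroup R, (∀ x ∈ D, efn γ x = x) → ∃ v, γ ^ p ^ v = 1 := by
  haveI := finite_of_le hR
  haveI := finite_mulAut hR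
  obtain ⟨D, h1, h2, h3, h4, h5, -⟩ := Cfsg.Agent.S1949.result (isPGroup_of_le hS hR)
    (F.autGroup R) (Inn_le_autGroup F hR)
  refine ⟨D.map R.subtype, Subgroup.map_subtype_le _, ?_, ?_, ?_, ?_, ?_⟩
  · rw [Subgroup.map_le_iff_le_comap]
    refine h2.trans ((Subgroup.closure_le _).2 ?_)
    rintro _ ⟨α, hα, x, rfl⟩
    have := H93.mem_hyp (F := F) hR hα x.2
    rw [efn_coe] at this
    exact this
  · rintro α hα _ ⟨x, hx, rfl⟩
    refine ⟨α x, ?_, (efn_coe α x).symm⟩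
    rw [← h1 α hα]
    exact ⟨x, hx, rfl⟩
  · rintro _ ⟨x, hx, rfl⟩
    rcases h3 x hx with h | ⟨h, h'⟩
    · exact Or.inl (congrArg Subtype.val h)
    · exact Or.inr ⟨h, congrArg Subtype.val h'⟩
  · rintro _ ⟨d, hd, rfl⟩ x hx
    have := h4 (Subgroup.commutator_mem_commutator hd (Subgroup.mem_top (⟨x, hx⟩ : R)))
    refine ⟨⟨_, this.1, rfl⟩, ?_⟩
    rintro _ ⟨e, he, rfl⟩
    exact congrArg Subtype.val (this.2 e he)
  · intro γ hγ h
    refine H93.pElt_of_pPrime_trivial fun k hk => h5 _ (Subgroup.pow_mem _ hγ _) hk fun d hd => ?_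
    have hd' : γ d = d := Subtype.ext (by rw [← efn_coe]; exact h d ⟨d, hd, rfl⟩)
    generalize p ^ k = m
    induction m with
    | zero => rfl
    | succ m ih => rw [pow_succ, MulAut.mul_apply, hd', ih]

theorem normal_top_of_opIn [Finite S] [Fact p.Prime] (hS : IsPGroup p S) (hF : F.IsSaturated p)
    (h : ∀ R, F.IsEssential p R → ∀ g ∈ S, ∀ hg : g ∈ Subgroup.normalizer (R : Set Ω),
      cjAut R g hg ∈ opIn p (F.autGroup R)) : F.IsNormal S := by
  refine normal_of_weaklyClosed hS hF (weaklyClosed_of_stronglyClosed (stronglyClosed_top F))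
    fun R hR => ?_
  exact le_of_centric_radical hS hR.1 (radical_of_essential hS hR) le_rfl
    (hR.1.1.trans Subgroup.le_normalizer) (h R hR)

theorem conj_mem_ucs {i : ℕ} {x s : Ω} (hx : x ∈ ucs S (i + 1)) (hs : s ∈ S) :
    x⁻¹ * (s * x * s⁻¹) ∈ ucs S i := by
  have := commutator_ucs_le S i (Subgroup.commutator_mem_commutator hs (Subgroup.inv_mem _ hx))
  have h2 := Subgroup.inv_mem _ this
  convert h2 using 1
  simp only [commutatorElement_def]
  group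

/-- if the fusion of small elements of the hyperfocal subgroup respects the upper central series
of `S`, an automorphism moving small elements inside their `S`-classes lies in `O_p` -/
theorem mem_opIn_of_small [Finite S] [Fact p.Prime] (hS : IsPGroup p S)
    (h : ∀ P f, M F P f → ∀ x ∈ P, x ∈ F.hyperfocalSubgroup p → f x ∈ F.hyperfocalSubgroup p →
      Sm p x → ∀ i, x ∈ ucs S i → f x ∈ ucs S i)
    {R : Subgroup Ω} (hR : R ≤ S) {β : MulAut R} (hβ : β ∈ F.autGroup R)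
    (hs : ∀ x ∈ R, x ∈ F.hyperfocalSubgroup p → efn β x ∈ F.hyperfocalSubgroup p → Sm p x →
      ∃ s ∈ S, efn β x = s * x * s⁻¹) :
    β ∈ opIn p (F.autGroup R) := by
  haveI := finite_of_le hR
  obtain ⟨D, h1, h2, h3, h4, -, h5⟩ := exists_smallD hS F hR
  obtain ⟨n, hn⟩ := exists_ucs_eq hS
  refine H93.mem_opIn_of_chain' (isPGroup_of_le hS hR) (fun i => D ⊓ ucs S i) n ?_ ?_ ?_ hβ ?_
  · simp [ucs_zero]
  · intro α hα i _ x hx hxi
    exact ⟨h3 α hα x hxi.1, h R _ ((mem_autGroup_iff hR).1 hα) x hx (h2 hxi.1)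
      (h2 (h3 α hα x hxi.1)) (h4 x hxi.1) i hxi.2⟩
  · intro γ hγ hf
    refine h5 γ hγ fun x hx => hf x (h1 hx) ⟨hx, ?_⟩
    show x ∈ ucs S n
    rw [hn]; exact hR (h1 hx)
  · intro i _ x hx hxi
    refine ⟨D.mul_mem (D.inv_mem hxi.1) (h3 β hβ x hxi.1), ?_⟩
    obtain ⟨s, hsS, e⟩ := hs x hx (h2 hxi.1) (h2 (h3 β hβ x hxi.1)) (h4 x hxi.1)
    rw [e]
    exact conj_mem_ucs hxi.2 hsS

theorem card_zpowers_of_sm [hp : Fact p.Prime] {x : Ω} (hx : Sm p x) (h1 : x ≠ 1) :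
    Nat.card (Subgroup.zpowers x) = p ∨ Nat.card (Subgroup.zpowers x) = 4 := by
  rw [Nat.card_zpowers]
  rcases hx with h | ⟨rfl, h⟩
  · exact Or.inl (orderOf_eq_prime h h1)
  · by_cases h2 : x ^ 2 = 1
    · exact Or.inl (orderOf_eq_prime h2 h1)
    · exact Or.inr (orderOf_eq_prime_pow (p := 2) (n := 1) (by simpa using h2) (by simpa using h))

/-- transfer of a hypothesis on maps between small cyclic subgroups to elements -/
theorem small_elt [hp : Fact p.Prime] {C : ∀ A : Subgroup Ω, Set (A →* Ω)}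
    (h : ∀ A B : Subgroup Ω, A ≤ (F.hyperfocalSubgroup p) → B ≤ (F.hyperfocalSubgroup p) →
      IsCyclic ↥A → (Nat.card ↥A = p ∨ Nat.card ↥A = 4) → IsCyclic ↥B →
      (Nat.card ↥B = p ∨ Nat.card ↥B = 4) → F.homSet A B ⊆ C A)
    {P : Subgroup Ω} {f : Ω → Ω} (hf : M F P f) {x : Ω} (hx : x ∈ P)
    (hxh : x ∈ F.hyperfocalSubgroup p) (hfx : f x ∈ F.hyperfocalSubgroup p) (hsm : Sm p x)
    (h1 : x ≠ 1) :
    ∃ φ ∈ C (Subgroup.zpowers x), ∀ y : Subgroup.zpowers x, φ y = f y := by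
  have hle : Subgroup.zpowers x ≤ P := (Subgroup.zpowers_le).2 hx
  have hf' := hf.restrict hle
  have hsm' : Sm p (f x) := by
    rcases hsm with e | ⟨e1, e⟩
    · exact Or.inl (by rw [← hf.homOn.map_pow hx, e, hf.map_one])
    · exact Or.inr ⟨e1, by rw [← hf.homOn.map_pow hx, e, hf.map_one]⟩
  have h1' : f x ≠ 1 := fun e => h1 ((hf.eq_one_iff hx).1 e)
  refine ⟨hf'.homOn.toHom, h _ (Subgroup.zpowers (f x)) ((Subgroup.zpowers_le).2 hxh)
    ((Subgroup.zpowers_le).2 hfx) inferInstance (card_zpowers_of_sm hsm h1) inferInstance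
    (card_zpowers_of_sm hsm' h1') ⟨hf'.toHom_mem, ?_⟩, fun y => rfl⟩
  rintro ⟨_, k, rfl⟩
  show f (x ^ k) ∈ _
  rw [hf.homOn.map_zpow hx]
  exact Subgroup.zpow_mem _ (Subgroup.mem_zpowers _) _

theorem M.mem_ucs [Finite S] {g : Ω → Ω} (hg : M F S g) {i : ℕ} {x : Ω} (hx : x ∈ ucs S i) :
    g x ∈ ucs S i := by
  obtain ⟨α, -, e⟩ := hg.exists_aut (hg.im_eq_self fun x hx => hg.mem hx)
  rw [← e x (ucs_le S i hx)]
  exact efn_mem_map_of_characteristic _ α hx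

/-- a cyclic subgroup of order `p` normalized by a `p`-element is centralized by it -/
theorem conj_eq_of_mem_zpowers [hp : Fact p.Prime] {x s : Ω} (hx : x ^ p = 1) {n : ℕ}
    (hs : s ^ p ^ n = 1) (h : s * x * s⁻¹ ∈ Subgroup.zpowers x) : s * x * s⁻¹ = x := by
  obtain ⟨k, hk⟩ := h
  simp only at hk
  have key : ∀ m : ℕ, s ^ m * x * (s ^ m)⁻¹ = x ^ (k ^ m) := by
    intro m
    induction m with
    | zero => simp
    | succ m ih =>
      have : s ^ (m + 1) * x * (s ^ (m + 1))⁻¹ = s ^ m * (s * x * s⁻¹) * (s ^ m)⁻¹ := by group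
      rw [this, ← hk, ← conj_zpow, ih, ← zpow_mul, pow_succ]
  have h1 := key (p ^ n)
  rw [hs] at h1
  simp only [one_mul, inv_one, mul_one] at h1
  have h2 : (k : ZMod p) ^ p ^ n = k := by
    clear h1 hs
    induction n with
    | zero => simp
    | succ n ih => rw [pow_succ, pow_mul, ih, ZMod.pow_card]
  have h3 : k ^ p ^ n ≡ k [ZMOD p] := by
    rw [← ZMod.intCast_eq_intCast_iff]; push_cast; exact h2
  have h4 : k ^ p ^ n ≡ k [ZMOD (orderOf x)] :=
    h3.of_dvd (Int.natCast_dvd_natCast.2 (orderOf_dvd_of_pow_eq_one hx))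
  rw [← hk, ← zpow_eq_zpow_iff_modEq.2 h4, ← h1]

end Cfsg.Agent.H62
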